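import Mathlib

/-!
# A verified stabiliser chain (Schreier–Sims certificate), abstractly

A group `K = closure (S 0)` acts on `X`; `S i` are nested generating sets, `U i k` transversal
elements for the base point `b i`, `V` a subgroup at the bottom of the chain.  If every product
`gen j * U i k` factors as `U i k' * (elements of deeper levels) * v`, then every element of `K`
factors through the transversals, and an element of `K` fixing all the base points lies in `V`.
-/

set_option autoImplicit false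

namespace Cfsg.Agent.Lib.Helper5.M23Ext

open Subgroup

variable {G : Type*} [Group G] {X : Type*} [MulAction G X]

/-- one level: if `U * L` is stable under left multiplication by the generators, it contains the
subgroup they generate -/
theorem level_step (S : Set G) (L : Subgroup G) (U : Set G) (h1 : (1 : G) ∈ U)
    (hfin : ∀ s ∈ S, IsOfFinOrder s)
    (hstep : ∀ s ∈ S, ∀ u ∈ U, ∃ u' ∈ U, u'⁻¹ * (s * u) ∈ L) :
    ∀ g ∈ closure S, ∃ u ∈ U, ∃ l ∈ L, g = u * l := by
  have key : ∀ s ∈ S, ∀ g : G, (∃ u ∈ U, ∃ l ∈ L, g = u * l) → ∃ u ∈ U, ∃ l ∈ L, s * g = u * l := by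
    rintro s hs g ⟨u, hu, l, hl, rfl⟩
    obtain ⟨u', hu', hm⟩ := hstep s hs u hu
    refine ⟨u', hu', u'⁻¹ * (s * u) * l, L.mul_mem hm hl, ?_⟩
    group
  have keypow : ∀ s ∈ S, ∀ n : ℕ, ∀ g : G, (∃ u ∈ U, ∃ l ∈ L, g = u * l) →
      ∃ u ∈ U, ∃ l ∈ L, s ^ n * g = u * l := by
    intro s hs n
    induction n with
    | zero => intro g hg; simpa using hg
    | succ n ih =>
      intro g hg
      have := key s hs _ (ih g hg)
      rwa [← mul_assoc, ← pow_succ'] at this
  intro g hg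
  induction hg using closure_induction_left with
  | one => exact ⟨1, h1, 1, L.one_mem, by simp⟩
  | mul_left s hs y _ ih => exact key s hs y ih
  | inv_mul_cancel s hs y _ ih =>
    obtain ⟨n, hn, hpow⟩ := (hfin s hs).exists_pow_eq_one
    have hinv : s⁻¹ = s ^ (n - 1) := by
      have : s ^ (n - 1) * s = 1 := by rw [← pow_succ, Nat.sub_add_cancel hn, hpow]
      exact (eq_inv_of_mul_eq_one_left this).symm
    rw [hinv]
    exact keypow s hs (n - 1) y ih

/-- the data of a stabiliser chain -/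
structure Chain (G : Type*) [Group G] (X : Type*) [MulAction G X] where
  /-- the strong generators outside `V` -/
  gen : ℕ → G
  /-- their number -/
  ng : ℕ
  /-- `gen j` fixes the base points `b i`, `i < lev j` -/
  lev : ℕ → ℕ
  /-- the subgroup at the bottom -/
  V : Subgroup G
  /-- the number of levels -/
  nl : ℕ
  /-- the base points -/
  b : ℕ → X
  /-- the transversal elements -/
  U : ℕ → ℕ → G
  /-- the sizes of the transversals -/
  nu : ℕ → ℕ

namespace Chain

variable (C : Chain G X)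

/-- the generating set of level `i` -/
def S (i : ℕ) : Set G := {g | ∃ j < C.ng, i ≤ C.lev j ∧ g = C.gen j} ∪ (C.V : Set G)

/-- the subgroup of level `i` -/
def H (i : ℕ) : Subgroup G := closure (C.S i)

theorem S_anti {i j : ℕ} (h : i ≤ j) : C.S j ⊆ C.S i := by
  rintro g (⟨k, hk, hl, rfl⟩ | hg)
  · exact Or.inl ⟨k, hk, h.trans hl, rfl⟩
  · exact Or.inr hg

theorem H_anti {i j : ℕ} (h : i ≤ j) : C.H j ≤ C.H i := closure_mono (C.S_anti h)

theorem V_le_H (i : ℕ) : C.V ≤ C.H i := fun _ hg => subset_closure (Or.inr hg)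

theorem H_top (hlev : ∀ j < C.ng, C.lev j < C.nl) : C.H C.nl = C.V := by
  apply le_antisymm
  · rw [H, closure_le]
    rintro g (⟨j, hj, hl, rfl⟩ | hg)
    · exact absurd hl (not_le.2 (hlev j hj))
    · exact hg
  · exact C.V_le_H _

/-- the product of the transversal elements `U l (ks l)` for `i ≤ l < i + n` -/
def tail (ks : ℕ → ℕ) : ℕ → ℕ → G
  | _, 0 => 1
  | i, n + 1 => C.U i (ks i) * tail ks (i + 1) n

theorem tail_mem (hU : ∀ i < C.nl, ∀ k < C.nu i, C.U i k ∈ C.H i) (ks : ℕ → ℕ) :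
    ∀ (n i : ℕ), i + n ≤ C.nl → (∀ l, i ≤ l → l < i + n → ks l < C.nu l) → C.tail ks i n ∈ C.H i
  | 0, i, _, _ => (C.H i).one_mem
  | n + 1, i, hin, hks => by
    rw [tail]
    refine (C.H i).mul_mem (hU i (by omega) _ (hks i le_rfl (by omega))) ?_
    exact C.H_anti (Nat.le_succ i) (tail_mem hU ks n (i + 1) (by omega)
      (fun l hl hl' => hks l (by omega) (by omega)))

/-- the certificate: every `gen j * U i k` factors through the transversals -/
def Cert : Prop :=
  ∀ i < C.nl, ∀ j < C.ng, i ≤ C.lev j → ∀ k < C.nu i,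
    ∃ k' < C.nu i, ∃ ks : ℕ → ℕ, (∀ l, i < l → l < C.nl → ks l < C.nu l) ∧ ∃ v ∈ C.V,
      C.gen j * C.U i k = C.U i k' * (C.tail ks (i + 1) (C.nl - (i + 1)) * v)

variable [Finite G]

/-- **factorisation**: an element of `H i` is `U i k * l` with `l ∈ H (i + 1)` -/
theorem factor (hU : ∀ i < C.nl, ∀ k < C.nu i, C.U i k ∈ C.H i)
    (hU0 : ∀ i < C.nl, C.U i 0 = 1 ∧ 0 < C.nu i)
    (hVn : ∀ i < C.nl, ∀ k < C.nu i, ∀ v ∈ C.V, (C.U i k)⁻¹ * v * C.U i k ∈ C.V)
    (hcert : C.Cert) {i : ℕ} (hi : i < C.nl) :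
    ∀ g ∈ C.H i, ∃ k < C.nu i, ∃ l ∈ C.H (i + 1), g = C.U i k * l := by
  have := level_step (C.S i) (C.H (i + 1)) {u | ∃ k < C.nu i, u = C.U i k}
    ⟨0, (hU0 i hi).2, (hU0 i hi).1.symm⟩ (fun s _ => isOfFinOrder_of_finite s) ?_
  · intro g hg
    obtain ⟨u, ⟨k, hk, rfl⟩, l, hl, rfl⟩ := this g hg
    exact ⟨k, hk, l, hl, rfl⟩
  · rintro s (⟨j, hj, hl, rfl⟩ | hs) u ⟨k, hk, rfl⟩
    · obtain ⟨k', hk', ks, hks, v, hv, e⟩ := hcert i hi j hj hl k hk
      refine ⟨_, ⟨k', hk', rfl⟩, ?_⟩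
      rw [e, inv_mul_cancel_left]
      refine (C.H (i + 1)).mul_mem ?_ (C.V_le_H _ hv)
      apply C.tail_mem hU ks _ _ (by omega)
      intro l h1 h2
      exact hks l (by omega) (by omega)
    · refine ⟨_, ⟨k, hk, rfl⟩, ?_⟩
      rw [← mul_assoc]
      exact C.V_le_H _ (hVn i hi k hk s hs)

/-- **the kernel**: an element of `H 0` fixing all the base points lies in `V` -/
theorem mem_V_of_fix (hlev : ∀ j < C.ng, C.lev j < C.nl)
    (hU : ∀ i < C.nl, ∀ k < C.nu i, C.U i k ∈ C.H i)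
    (hU0 : ∀ i < C.nl, C.U i 0 = 1 ∧ 0 < C.nu i)
    (hVn : ∀ i < C.nl, ∀ k < C.nu i, ∀ v ∈ C.V, (C.U i k)⁻¹ * v * C.U i k ∈ C.V)
    (hcert : C.Cert)
    (hfixg : ∀ j < C.ng, ∀ i < C.lev j, C.gen j • C.b i = C.b i)
    (hfixV : ∀ v ∈ C.V, ∀ i < C.nl, v • C.b i = C.b i)
    (hinj : ∀ i < C.nl, ∀ k < C.nu i, C.U i k • C.b i = C.b i → k = 0) :
    ∀ g ∈ C.H 0, (∀ i < C.nl, g • C.b i = C.b i) → g ∈ C.V := by
  -- `H (i + 1)` fixes `b i`
  have hfixH : ∀ i < C.nl, ∀ l ∈ C.H (i + 1), l • C.b i = C.b i := by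
    intro i hi l hl
    have : C.H (i + 1) ≤ MulAction.stabilizer G (C.b i) := by
      rw [H, closure_le]
      rintro g (⟨j, hj, hlv, rfl⟩ | hg)
      · exact MulAction.mem_stabilizer_iff.2 (hfixg j hj i (by omega))
      · exact MulAction.mem_stabilizer_iff.2 (hfixV g hg i hi)
    exact MulAction.mem_stabilizer_iff.1 (this hl)
  have main : ∀ n i : ℕ, i + n = C.nl → ∀ g ∈ C.H i,
      (∀ i', i ≤ i' → i' < C.nl → g • C.b i' = C.b i') → g ∈ C.V := by
    intro n
    induction n with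
    | zero =>
      intro i hi g hg _
      have : i = C.nl := by omega
      rw [this, C.H_top hlev] at hg
      exact hg
    | succ n ih =>
      intro i hi g hg hfix
      have hi' : i < C.nl := by omega
      obtain ⟨k, hk, l, hl, rfl⟩ := C.factor hU hU0 hVn hcert hi' g hg
      have h1 := hfix i le_rfl hi'
      rw [mul_smul, hfixH i hi' l hl] at h1
      have hk0 := hinj i hi' k hk h1
      subst hk0
      rw [(hU0 i hi').1, one_mul] at hfix ⊢
      exact ih (i + 1) (by omega) l hl (fun i' h2 h3 => hfix i' (by omega) h3)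
  intro g hg hfix
  exact main C.nl 0 (by omega) g hg (fun i' _ h => hfix i' h)

end Chain

end Cfsg.Agent.Lib.Helper5.M23Ext
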