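import Cfsg.Agent.Lib.Helper5.M23Ext.Defs

/-! # The non-split extension 2^11.M23: the certificates of level 0, generator 1 (kernel check) -/

set_option autoImplicit false
set_option maxRecDepth 1000000

namespace Cfsg.Agent.Lib.Helper5.M23Ext

set_option maxHeartbeats 4000000 in
theorem chk_cert_0_1_0 : certOne 0 1 0 = true := by decide +kernel

set_option maxHeartbeats 4000000 in
theorem chk_cert_0_1_1 : certOne 0 1 1 = true := by decide +kernel

set_option maxHeartbeats 4000000 in
theorem chk_cert_0_1_2 : certOne 0 1 2 = true := by decide +kernel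

set_option maxHeartbeats 4000000 in
theorem chk_cert_0_1_3 : certOne 0 1 3 = true := by decide +kernel

set_option maxHeartbeats 4000000 in
theorem chk_cert_0_1_4 : certOne 0 1 4 = true := by decide +kernel

set_option maxHeartbeats 4000000 in
theorem chk_cert_0_1_5 : certOne 0 1 5 = true := by decide +kernel

set_option maxHeartbeats 4000000 in
theorem chk_cert_0_1_6 : certOne 0 1 6 = true := by decide +kernel

set_option maxHeartbeats 4000000 in
theorem chk_cert_0_1_7 : certOne 0 1 7 = true := by decide +kernel

set_option maxHeartbeats 4000000 in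
theorem chk_cert_0_1_8 : certOne 0 1 8 = true := by decide +kernel

set_option maxHeartbeats 4000000 in
theorem chk_cert_0_1_9 : certOne 0 1 9 = true := by decide +kernel

set_option maxHeartbeats 4000000 in
theorem chk_cert_0_1_10 : certOne 0 1 10 = true := by decide +kernel

set_option maxHeartbeats 4000000 in
theorem chk_cert_0_1_11 : certOne 0 1 11 = true := by decide +kernel

set_option maxHeartbeats 4000000 in
theorem chk_cert_0_1_12 : certOne 0 1 12 = true := by decide +kernel

set_option maxHeartbeats 4000000 in
theorem chk_cert_0_1_13 : certOne 0 1 13 = true := by decide +kernel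

set_option maxHeartbeats 4000000 in
theorem chk_cert_0_1_14 : certOne 0 1 14 = true := by decide +kernel

set_option maxHeartbeats 4000000 in
theorem chk_cert_0_1_15 : certOne 0 1 15 = true := by decide +kernel

set_option maxHeartbeats 4000000 in
theorem chk_cert_0_1_16 : certOne 0 1 16 = true := by decide +kernel

set_option maxHeartbeats 4000000 in
theorem chk_cert_0_1_17 : certOne 0 1 17 = true := by decide +kernel

set_option maxHeartbeats 4000000 in
theorem chk_cert_0_1_18 : certOne 0 1 18 = true := by decide +kernel

set_option maxHeartbeats 4000000 in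
theorem chk_cert_0_1_19 : certOne 0 1 19 = true := by decide +kernel

set_option maxHeartbeats 4000000 in
theorem chk_cert_0_1_20 : certOne 0 1 20 = true := by decide +kernel

set_option maxHeartbeats 4000000 in
theorem chk_cert_0_1_21 : certOne 0 1 21 = true := by decide +kernel

set_option maxHeartbeats 4000000 in
theorem chk_cert_0_1_22 : certOne 0 1 22 = true := by decide +kernel

theorem chk_cert01 : ∀ k < 23, certOne 0 1 k = true := by
  intro k hk
  interval_cases k
  · exact chk_cert_0_1_0
  · exact chk_cert_0_1_1
  · exact chk_cert_0_1_2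
  · exact chk_cert_0_1_3
  · exact chk_cert_0_1_4
  · exact chk_cert_0_1_5
  · exact chk_cert_0_1_6
  · exact chk_cert_0_1_7
  · exact chk_cert_0_1_8
  · exact chk_cert_0_1_9
  · exact chk_cert_0_1_10
  · exact chk_cert_0_1_11
  · exact chk_cert_0_1_12
  · exact chk_cert_0_1_13
  · exact chk_cert_0_1_14
  · exact chk_cert_0_1_15
  · exact chk_cert_0_1_16
  · exact chk_cert_0_1_17
  · exact chk_cert_0_1_18
  · exact chk_cert_0_1_19
  · exact chk_cert_0_1_20
  · exact chk_cert_0_1_21
  · exact chk_cert_0_1_22

end Cfsg.Agent.Lib.Helper5.M23Ext
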