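import Cfsg.Agent.Lib.Helper5.M23Ext.Defs

/-! # The non-split extension 2^11.M23: the certificates of level 0, generator 3 (kernel check) -/

set_option autoImplicit false
set_option maxRecDepth 1000000

namespace Cfsg.Agent.Lib.Helper5.M23Ext

set_option maxHeartbeats 4000000 in
theorem chk_cert_0_3_0 : certOne 0 3 0 = true := by decide +kernel

set_option maxHeartbeats 4000000 in
theorem chk_cert_0_3_1 : certOne 0 3 1 = true := by decide +kernel

set_option maxHeartbeats 4000000 in
theorem chk_cert_0_3_2 : certOne 0 3 2 = true := by decide +kernel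

set_option maxHeartbeats 4000000 in
theorem chk_cert_0_3_3 : certOne 0 3 3 = true := by decide +kernel

set_option maxHeartbeats 4000000 in
theorem chk_cert_0_3_4 : certOne 0 3 4 = true := by decide +kernel

set_option maxHeartbeats 4000000 in
theorem chk_cert_0_3_5 : certOne 0 3 5 = true := by decide +kernel

set_option maxHeartbeats 4000000 in
theorem chk_cert_0_3_6 : certOne 0 3 6 = true := by decide +kernel

set_option maxHeartbeats 4000000 in
theorem chk_cert_0_3_7 : certOne 0 3 7 = true := by decide +kernel

set_option maxHeartbeats 4000000 in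
theorem chk_cert_0_3_8 : certOne 0 3 8 = true := by decide +kernel

set_option maxHeartbeats 4000000 in
theorem chk_cert_0_3_9 : certOne 0 3 9 = true := by decide +kernel

set_option maxHeartbeats 4000000 in
theorem chk_cert_0_3_10 : certOne 0 3 10 = true := by decide +kernel

set_option maxHeartbeats 4000000 in
theorem chk_cert_0_3_11 : certOne 0 3 11 = true := by decide +kernel

set_option maxHeartbeats 4000000 in
theorem chk_cert_0_3_12 : certOne 0 3 12 = true := by decide +kernel

set_option maxHeartbeats 4000000 in
theorem chk_cert_0_3_13 : certOne 0 3 13 = true := by decide +kernel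

set_option maxHeartbeats 4000000 in
theorem chk_cert_0_3_14 : certOne 0 3 14 = true := by decide +kernel

set_option maxHeartbeats 4000000 in
theorem chk_cert_0_3_15 : certOne 0 3 15 = true := by decide +kernel

set_option maxHeartbeats 4000000 in
theorem chk_cert_0_3_16 : certOne 0 3 16 = true := by decide +kernel

set_option maxHeartbeats 4000000 in
theorem chk_cert_0_3_17 : certOne 0 3 17 = true := by decide +kernel

set_option maxHeartbeats 4000000 in
theorem chk_cert_0_3_18 : certOne 0 3 18 = true := by decide +kernel

set_option maxHeartbeats 4000000 in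
theorem chk_cert_0_3_19 : certOne 0 3 19 = true := by decide +kernel

set_option maxHeartbeats 4000000 in
theorem chk_cert_0_3_20 : certOne 0 3 20 = true := by decide +kernel

set_option maxHeartbeats 4000000 in
theorem chk_cert_0_3_21 : certOne 0 3 21 = true := by decide +kernel

set_option maxHeartbeats 4000000 in
theorem chk_cert_0_3_22 : certOne 0 3 22 = true := by decide +kernel

theorem chk_cert03 : ∀ k < 23, certOne 0 3 k = true := by
  intro k hk
  interval_cases k
  · exact chk_cert_0_3_0
  · exact chk_cert_0_3_1
  · exact chk_cert_0_3_2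
  · exact chk_cert_0_3_3
  · exact chk_cert_0_3_4
  · exact chk_cert_0_3_5
  · exact chk_cert_0_3_6
  · exact chk_cert_0_3_7
  · exact chk_cert_0_3_8
  · exact chk_cert_0_3_9
  · exact chk_cert_0_3_10
  · exact chk_cert_0_3_11
  · exact chk_cert_0_3_12
  · exact chk_cert_0_3_13
  · exact chk_cert_0_3_14
  · exact chk_cert_0_3_15
  · exact chk_cert_0_3_16
  · exact chk_cert_0_3_17
  · exact chk_cert_0_3_18
  · exact chk_cert_0_3_19
  · exact chk_cert_0_3_20
  · exact chk_cert_0_3_21
  · exact chk_cert_0_3_22

end Cfsg.Agent.Lib.Helper5.M23Ext
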