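import Cfsg.Agent.Lib.Helper5.M23Ext.Defs

/-! # The non-split extension 2^11.M23: the certificates of level 0, generator 4 (kernel check) -/

set_option autoImplicit false
set_option maxRecDepth 1000000

namespace Cfsg.Agent.Lib.Helper5.M23Ext

set_option maxHeartbeats 4000000 in
theorem chk_cert_0_4_0 : certOne 0 4 0 = true := by decide +kernel

set_option maxHeartbeats 4000000 in
theorem chk_cert_0_4_1 : certOne 0 4 1 = true := by decide +kernel

set_option maxHeartbeats 4000000 in
theorem chk_cert_0_4_2 : certOne 0 4 2 = true := by decide +kernel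

set_option maxHeartbeats 4000000 in
theorem chk_cert_0_4_3 : certOne 0 4 3 = true := by decide +kernel

set_option maxHeartbeats 4000000 in
theorem chk_cert_0_4_4 : certOne 0 4 4 = true := by decide +kernel

set_option maxHeartbeats 4000000 in
theorem chk_cert_0_4_5 : certOne 0 4 5 = true := by decide +kernel

set_option maxHeartbeats 4000000 in
theorem chk_cert_0_4_6 : certOne 0 4 6 = true := by decide +kernel

set_option maxHeartbeats 4000000 in
theorem chk_cert_0_4_7 : certOne 0 4 7 = true := by decide +kernel

set_option maxHeartbeats 4000000 in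
theorem chk_cert_0_4_8 : certOne 0 4 8 = true := by decide +kernel

set_option maxHeartbeats 4000000 in
theorem chk_cert_0_4_9 : certOne 0 4 9 = true := by decide +kernel

set_option maxHeartbeats 4000000 in
theorem chk_cert_0_4_10 : certOne 0 4 10 = true := by decide +kernel

set_option maxHeartbeats 4000000 in
theorem chk_cert_0_4_11 : certOne 0 4 11 = true := by decide +kernel

set_option maxHeartbeats 4000000 in
theorem chk_cert_0_4_12 : certOne 0 4 12 = true := by decide +kernel

set_option maxHeartbeats 4000000 in
theorem chk_cert_0_4_13 : certOne 0 4 13 = true := by decide +kernel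

set_option maxHeartbeats 4000000 in
theorem chk_cert_0_4_14 : certOne 0 4 14 = true := by decide +kernel

set_option maxHeartbeats 4000000 in
theorem chk_cert_0_4_15 : certOne 0 4 15 = true := by decide +kernel

set_option maxHeartbeats 4000000 in
theorem chk_cert_0_4_16 : certOne 0 4 16 = true := by decide +kernel

set_option maxHeartbeats 4000000 in
theorem chk_cert_0_4_17 : certOne 0 4 17 = true := by decide +kernel

set_option maxHeartbeats 4000000 in
theorem chk_cert_0_4_18 : certOne 0 4 18 = true := by decide +kernel

set_option maxHeartbeats 4000000 in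
theorem chk_cert_0_4_19 : certOne 0 4 19 = true := by decide +kernel

set_option maxHeartbeats 4000000 in
theorem chk_cert_0_4_20 : certOne 0 4 20 = true := by decide +kernel

set_option maxHeartbeats 4000000 in
theorem chk_cert_0_4_21 : certOne 0 4 21 = true := by decide +kernel

set_option maxHeartbeats 4000000 in
theorem chk_cert_0_4_22 : certOne 0 4 22 = true := by decide +kernel

theorem chk_cert04 : ∀ k < 23, certOne 0 4 k = true := by
  intro k hk
  interval_cases k
  · exact chk_cert_0_4_0
  · exact chk_cert_0_4_1
  · exact chk_cert_0_4_2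
  · exact chk_cert_0_4_3
  · exact chk_cert_0_4_4
  · exact chk_cert_0_4_5
  · exact chk_cert_0_4_6
  · exact chk_cert_0_4_7
  · exact chk_cert_0_4_8
  · exact chk_cert_0_4_9
  · exact chk_cert_0_4_10
  · exact chk_cert_0_4_11
  · exact chk_cert_0_4_12
  · exact chk_cert_0_4_13
  · exact chk_cert_0_4_14
  · exact chk_cert_0_4_15
  · exact chk_cert_0_4_16
  · exact chk_cert_0_4_17
  · exact chk_cert_0_4_18
  · exact chk_cert_0_4_19
  · exact chk_cert_0_4_20
  · exact chk_cert_0_4_21
  · exact chk_cert_0_4_22

end Cfsg.Agent.Lib.Helper5.M23Ext
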