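import Cfsg.Agent.Lib.Helper5.M23Ext.Defs

/-! # The non-split extension 2^11.M23: the certificates of level 0, generator 5 (kernel check) -/

set_option autoImplicit false
set_option maxRecDepth 1000000

namespace Cfsg.Agent.Lib.Helper5.M23Ext

set_option maxHeartbeats 4000000 in
theorem chk_cert_0_5_0 : certOne 0 5 0 = true := by decide +kernel

set_option maxHeartbeats 4000000 in
theorem chk_cert_0_5_1 : certOne 0 5 1 = true := by decide +kernel

set_option maxHeartbeats 4000000 in
theorem chk_cert_0_5_2 : certOne 0 5 2 = true := by decide +kernel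

set_option maxHeartbeats 4000000 in
theorem chk_cert_0_5_3 : certOne 0 5 3 = true := by decide +kernel

set_option maxHeartbeats 4000000 in
theorem chk_cert_0_5_4 : certOne 0 5 4 = true := by decide +kernel

set_option maxHeartbeats 4000000 in
theorem chk_cert_0_5_5 : certOne 0 5 5 = true := by decide +kernel

set_option maxHeartbeats 4000000 in
theorem chk_cert_0_5_6 : certOne 0 5 6 = true := by decide +kernel

set_option maxHeartbeats 4000000 in
theorem chk_cert_0_5_7 : certOne 0 5 7 = true := by decide +kernel

set_option maxHeartbeats 4000000 in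
theorem chk_cert_0_5_8 : certOne 0 5 8 = true := by decide +kernel

set_option maxHeartbeats 4000000 in
theorem chk_cert_0_5_9 : certOne 0 5 9 = true := by decide +kernel

set_option maxHeartbeats 4000000 in
theorem chk_cert_0_5_10 : certOne 0 5 10 = true := by decide +kernel

set_option maxHeartbeats 4000000 in
theorem chk_cert_0_5_11 : certOne 0 5 11 = true := by decide +kernel

set_option maxHeartbeats 4000000 in
theorem chk_cert_0_5_12 : certOne 0 5 12 = true := by decide +kernel

set_option maxHeartbeats 4000000 in
theorem chk_cert_0_5_13 : certOne 0 5 13 = true := by decide +kernel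

set_option maxHeartbeats 4000000 in
theorem chk_cert_0_5_14 : certOne 0 5 14 = true := by decide +kernel

set_option maxHeartbeats 4000000 in
theorem chk_cert_0_5_15 : certOne 0 5 15 = true := by decide +kernel

set_option maxHeartbeats 4000000 in
theorem chk_cert_0_5_16 : certOne 0 5 16 = true := by decide +kernel

set_option maxHeartbeats 4000000 in
theorem chk_cert_0_5_17 : certOne 0 5 17 = true := by decide +kernel

set_option maxHeartbeats 4000000 in
theorem chk_cert_0_5_18 : certOne 0 5 18 = true := by decide +kernel

set_option maxHeartbeats 4000000 in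
theorem chk_cert_0_5_19 : certOne 0 5 19 = true := by decide +kernel

set_option maxHeartbeats 4000000 in
theorem chk_cert_0_5_20 : certOne 0 5 20 = true := by decide +kernel

set_option maxHeartbeats 4000000 in
theorem chk_cert_0_5_21 : certOne 0 5 21 = true := by decide +kernel

set_option maxHeartbeats 4000000 in
theorem chk_cert_0_5_22 : certOne 0 5 22 = true := by decide +kernel

theorem chk_cert05 : ∀ k < 23, certOne 0 5 k = true := by
  intro k hk
  interval_cases k
  · exact chk_cert_0_5_0
  · exact chk_cert_0_5_1
  · exact chk_cert_0_5_2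
  · exact chk_cert_0_5_3
  · exact chk_cert_0_5_4
  · exact chk_cert_0_5_5
  · exact chk_cert_0_5_6
  · exact chk_cert_0_5_7
  · exact chk_cert_0_5_8
  · exact chk_cert_0_5_9
  · exact chk_cert_0_5_10
  · exact chk_cert_0_5_11
  · exact chk_cert_0_5_12
  · exact chk_cert_0_5_13
  · exact chk_cert_0_5_14
  · exact chk_cert_0_5_15
  · exact chk_cert_0_5_16
  · exact chk_cert_0_5_17
  · exact chk_cert_0_5_18
  · exact chk_cert_0_5_19
  · exact chk_cert_0_5_20
  · exact chk_cert_0_5_21
  · exact chk_cert_0_5_22

end Cfsg.Agent.Lib.Helper5.M23Ext
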