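import Cfsg.Agent.Lib.Helper5.M23Ext.Defs

/-! # The non-split extension 2^11.M23: the certificates of level 0, generator 6 (kernel check) -/

set_option autoImplicit false
set_option maxRecDepth 1000000

namespace Cfsg.Agent.Lib.Helper5.M23Ext

set_option maxHeartbeats 4000000 in
theorem chk_cert_0_6_0 : certOne 0 6 0 = true := by decide +kernel

set_option maxHeartbeats 4000000 in
theorem chk_cert_0_6_1 : certOne 0 6 1 = true := by decide +kernel

set_option maxHeartbeats 4000000 in
theorem chk_cert_0_6_2 : certOne 0 6 2 = true := by decide +kernel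

set_option maxHeartbeats 4000000 in
theorem chk_cert_0_6_3 : certOne 0 6 3 = true := by decide +kernel

set_option maxHeartbeats 4000000 in
theorem chk_cert_0_6_4 : certOne 0 6 4 = true := by decide +kernel

set_option maxHeartbeats 4000000 in
theorem chk_cert_0_6_5 : certOne 0 6 5 = true := by decide +kernel

set_option maxHeartbeats 4000000 in
theorem chk_cert_0_6_6 : certOne 0 6 6 = true := by decide +kernel

set_option maxHeartbeats 4000000 in
theorem chk_cert_0_6_7 : certOne 0 6 7 = true := by decide +kernel

set_option maxHeartbeats 4000000 in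
theorem chk_cert_0_6_8 : certOne 0 6 8 = true := by decide +kernel

set_option maxHeartbeats 4000000 in
theorem chk_cert_0_6_9 : certOne 0 6 9 = true := by decide +kernel

set_option maxHeartbeats 4000000 in
theorem chk_cert_0_6_10 : certOne 0 6 10 = true := by decide +kernel

set_option maxHeartbeats 4000000 in
theorem chk_cert_0_6_11 : certOne 0 6 11 = true := by decide +kernel

set_option maxHeartbeats 4000000 in
theorem chk_cert_0_6_12 : certOne 0 6 12 = true := by decide +kernel

set_option maxHeartbeats 4000000 in
theorem chk_cert_0_6_13 : certOne 0 6 13 = true := by decide +kernel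

set_option maxHeartbeats 4000000 in
theorem chk_cert_0_6_14 : certOne 0 6 14 = true := by decide +kernel

set_option maxHeartbeats 4000000 in
theorem chk_cert_0_6_15 : certOne 0 6 15 = true := by decide +kernel

set_option maxHeartbeats 4000000 in
theorem chk_cert_0_6_16 : certOne 0 6 16 = true := by decide +kernel

set_option maxHeartbeats 4000000 in
theorem chk_cert_0_6_17 : certOne 0 6 17 = true := by decide +kernel

set_option maxHeartbeats 4000000 in
theorem chk_cert_0_6_18 : certOne 0 6 18 = true := by decide +kernel

set_option maxHeartbeats 4000000 in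
theorem chk_cert_0_6_19 : certOne 0 6 19 = true := by decide +kernel

set_option maxHeartbeats 4000000 in
theorem chk_cert_0_6_20 : certOne 0 6 20 = true := by decide +kernel

set_option maxHeartbeats 4000000 in
theorem chk_cert_0_6_21 : certOne 0 6 21 = true := by decide +kernel

set_option maxHeartbeats 4000000 in
theorem chk_cert_0_6_22 : certOne 0 6 22 = true := by decide +kernel

theorem chk_cert06 : ∀ k < 23, certOne 0 6 k = true := by
  intro k hk
  interval_cases k
  · exact chk_cert_0_6_0
  · exact chk_cert_0_6_1
  · exact chk_cert_0_6_2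
  · exact chk_cert_0_6_3
  · exact chk_cert_0_6_4
  · exact chk_cert_0_6_5
  · exact chk_cert_0_6_6
  · exact chk_cert_0_6_7
  · exact chk_cert_0_6_8
  · exact chk_cert_0_6_9
  · exact chk_cert_0_6_10
  · exact chk_cert_0_6_11
  · exact chk_cert_0_6_12
  · exact chk_cert_0_6_13
  · exact chk_cert_0_6_14
  · exact chk_cert_0_6_15
  · exact chk_cert_0_6_16
  · exact chk_cert_0_6_17
  · exact chk_cert_0_6_18
  · exact chk_cert_0_6_19
  · exact chk_cert_0_6_20
  · exact chk_cert_0_6_21
  · exact chk_cert_0_6_22

end Cfsg.Agent.Lib.Helper5.M23Ext
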