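import Cfsg.Agent.Lib.Helper5.M23Ext.Defs

/-! # The non-split extension 2^11.M23: the certificates of level 0, generator 7 (kernel check) -/

set_option autoImplicit false
set_option maxRecDepth 1000000

namespace Cfsg.Agent.Lib.Helper5.M23Ext

set_option maxHeartbeats 4000000 in
theorem chk_cert_0_7_0 : certOne 0 7 0 = true := by decide +kernel

set_option maxHeartbeats 4000000 in
theorem chk_cert_0_7_1 : certOne 0 7 1 = true := by decide +kernel

set_option maxHeartbeats 4000000 in
theorem chk_cert_0_7_2 : certOne 0 7 2 = true := by decide +kernel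

set_option maxHeartbeats 4000000 in
theorem chk_cert_0_7_3 : certOne 0 7 3 = true := by decide +kernel

set_option maxHeartbeats 4000000 in
theorem chk_cert_0_7_4 : certOne 0 7 4 = true := by decide +kernel

set_option maxHeartbeats 4000000 in
theorem chk_cert_0_7_5 : certOne 0 7 5 = true := by decide +kernel

set_option maxHeartbeats 4000000 in
theorem chk_cert_0_7_6 : certOne 0 7 6 = true := by decide +kernel

set_option maxHeartbeats 4000000 in
theorem chk_cert_0_7_7 : certOne 0 7 7 = true := by decide +kernel

set_option maxHeartbeats 4000000 in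
theorem chk_cert_0_7_8 : certOne 0 7 8 = true := by decide +kernel

set_option maxHeartbeats 4000000 in
theorem chk_cert_0_7_9 : certOne 0 7 9 = true := by decide +kernel

set_option maxHeartbeats 4000000 in
theorem chk_cert_0_7_10 : certOne 0 7 10 = true := by decide +kernel

set_option maxHeartbeats 4000000 in
theorem chk_cert_0_7_11 : certOne 0 7 11 = true := by decide +kernel

set_option maxHeartbeats 4000000 in
theorem chk_cert_0_7_12 : certOne 0 7 12 = true := by decide +kernel

set_option maxHeartbeats 4000000 in
theorem chk_cert_0_7_13 : certOne 0 7 13 = true := by decide +kernel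

set_option maxHeartbeats 4000000 in
theorem chk_cert_0_7_14 : certOne 0 7 14 = true := by decide +kernel

set_option maxHeartbeats 4000000 in
theorem chk_cert_0_7_15 : certOne 0 7 15 = true := by decide +kernel

set_option maxHeartbeats 4000000 in
theorem chk_cert_0_7_16 : certOne 0 7 16 = true := by decide +kernel

set_option maxHeartbeats 4000000 in
theorem chk_cert_0_7_17 : certOne 0 7 17 = true := by decide +kernel

set_option maxHeartbeats 4000000 in
theorem chk_cert_0_7_18 : certOne 0 7 18 = true := by decide +kernel

set_option maxHeartbeats 4000000 in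
theorem chk_cert_0_7_19 : certOne 0 7 19 = true := by decide +kernel

set_option maxHeartbeats 4000000 in
theorem chk_cert_0_7_20 : certOne 0 7 20 = true := by decide +kernel

set_option maxHeartbeats 4000000 in
theorem chk_cert_0_7_21 : certOne 0 7 21 = true := by decide +kernel

set_option maxHeartbeats 4000000 in
theorem chk_cert_0_7_22 : certOne 0 7 22 = true := by decide +kernel

theorem chk_cert07 : ∀ k < 23, certOne 0 7 k = true := by
  intro k hk
  interval_cases k
  · exact chk_cert_0_7_0
  · exact chk_cert_0_7_1
  · exact chk_cert_0_7_2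
  · exact chk_cert_0_7_3
  · exact chk_cert_0_7_4
  · exact chk_cert_0_7_5
  · exact chk_cert_0_7_6
  · exact chk_cert_0_7_7
  · exact chk_cert_0_7_8
  · exact chk_cert_0_7_9
  · exact chk_cert_0_7_10
  · exact chk_cert_0_7_11
  · exact chk_cert_0_7_12
  · exact chk_cert_0_7_13
  · exact chk_cert_0_7_14
  · exact chk_cert_0_7_15
  · exact chk_cert_0_7_16
  · exact chk_cert_0_7_17
  · exact chk_cert_0_7_18
  · exact chk_cert_0_7_19
  · exact chk_cert_0_7_20
  · exact chk_cert_0_7_21
  · exact chk_cert_0_7_22

end Cfsg.Agent.Lib.Helper5.M23Ext
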