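import Cfsg.Agent.Lib.Helper5.M23Ext.Defs

/-! # The non-split extension 2^11.M23: the certificates of level 1, generator 2 (kernel check) -/

set_option autoImplicit false
set_option maxRecDepth 1000000

namespace Cfsg.Agent.Lib.Helper5.M23Ext

set_option maxHeartbeats 4000000 in
theorem chk_cert_1_0_0 : certOne 1 0 0 = true := by decide +kernel

set_option maxHeartbeats 4000000 in
theorem chk_cert_1_0_1 : certOne 1 0 1 = true := by decide +kernel

set_option maxHeartbeats 4000000 in
theorem chk_cert_1_0_2 : certOne 1 0 2 = true := by decide +kernel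

set_option maxHeartbeats 4000000 in
theorem chk_cert_1_0_3 : certOne 1 0 3 = true := by decide +kernel

set_option maxHeartbeats 4000000 in
theorem chk_cert_1_0_4 : certOne 1 0 4 = true := by decide +kernel

set_option maxHeartbeats 4000000 in
theorem chk_cert_1_0_5 : certOne 1 0 5 = true := by decide +kernel

set_option maxHeartbeats 4000000 in
theorem chk_cert_1_0_6 : certOne 1 0 6 = true := by decide +kernel

set_option maxHeartbeats 4000000 in
theorem chk_cert_1_0_7 : certOne 1 0 7 = true := by decide +kernel

set_option maxHeartbeats 4000000 in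
theorem chk_cert_1_0_8 : certOne 1 0 8 = true := by decide +kernel

set_option maxHeartbeats 4000000 in
theorem chk_cert_1_0_9 : certOne 1 0 9 = true := by decide +kernel

set_option maxHeartbeats 4000000 in
theorem chk_cert_1_0_10 : certOne 1 0 10 = true := by decide +kernel

set_option maxHeartbeats 4000000 in
theorem chk_cert_1_0_11 : certOne 1 0 11 = true := by decide +kernel

set_option maxHeartbeats 4000000 in
theorem chk_cert_1_0_12 : certOne 1 0 12 = true := by decide +kernel

set_option maxHeartbeats 4000000 in
theorem chk_cert_1_0_13 : certOne 1 0 13 = true := by decide +kernel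

set_option maxHeartbeats 4000000 in
theorem chk_cert_1_0_14 : certOne 1 0 14 = true := by decide +kernel

set_option maxHeartbeats 4000000 in
theorem chk_cert_1_0_15 : certOne 1 0 15 = true := by decide +kernel

set_option maxHeartbeats 4000000 in
theorem chk_cert_1_0_16 : certOne 1 0 16 = true := by decide +kernel

set_option maxHeartbeats 4000000 in
theorem chk_cert_1_0_17 : certOne 1 0 17 = true := by decide +kernel

set_option maxHeartbeats 4000000 in
theorem chk_cert_1_0_18 : certOne 1 0 18 = true := by decide +kernel

set_option maxHeartbeats 4000000 in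
theorem chk_cert_1_0_19 : certOne 1 0 19 = true := by decide +kernel

set_option maxHeartbeats 4000000 in
theorem chk_cert_1_0_20 : certOne 1 0 20 = true := by decide +kernel

set_option maxHeartbeats 4000000 in
theorem chk_cert_1_0_21 : certOne 1 0 21 = true := by decide +kernel

theorem chk_cert10 : ∀ k < 22, certOne 1 0 k = true := by
  intro k hk
  interval_cases k
  · exact chk_cert_1_0_0
  · exact chk_cert_1_0_1
  · exact chk_cert_1_0_2
  · exact chk_cert_1_0_3
  · exact chk_cert_1_0_4
  · exact chk_cert_1_0_5
  · exact chk_cert_1_0_6
  · exact chk_cert_1_0_7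
  · exact chk_cert_1_0_8
  · exact chk_cert_1_0_9
  · exact chk_cert_1_0_10
  · exact chk_cert_1_0_11
  · exact chk_cert_1_0_12
  · exact chk_cert_1_0_13
  · exact chk_cert_1_0_14
  · exact chk_cert_1_0_15
  · exact chk_cert_1_0_16
  · exact chk_cert_1_0_17
  · exact chk_cert_1_0_18
  · exact chk_cert_1_0_19
  · exact chk_cert_1_0_20
  · exact chk_cert_1_0_21

end Cfsg.Agent.Lib.Helper5.M23Ext
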