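import Cfsg.Agent.Lib.Helper5.M23Ext.Defs

/-! # The non-split extension 2^11.M23: the certificates of level 2, generator 5 (kernel check) -/

set_option autoImplicit false
set_option maxRecDepth 1000000

namespace Cfsg.Agent.Lib.Helper5.M23Ext

set_option maxHeartbeats 4000000 in
theorem chk_cert_2_2_0 : certOne 2 2 0 = true := by decide +kernel

set_option maxHeartbeats 4000000 in
theorem chk_cert_2_2_1 : certOne 2 2 1 = true := by decide +kernel

set_option maxHeartbeats 4000000 in
theorem chk_cert_2_2_2 : certOne 2 2 2 = true := by decide +kernel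

set_option maxHeartbeats 4000000 in
theorem chk_cert_2_2_3 : certOne 2 2 3 = true := by decide +kernel

set_option maxHeartbeats 4000000 in
theorem chk_cert_2_2_4 : certOne 2 2 4 = true := by decide +kernel

set_option maxHeartbeats 4000000 in
theorem chk_cert_2_2_5 : certOne 2 2 5 = true := by decide +kernel

set_option maxHeartbeats 4000000 in
theorem chk_cert_2_2_6 : certOne 2 2 6 = true := by decide +kernel

set_option maxHeartbeats 4000000 in
theorem chk_cert_2_2_7 : certOne 2 2 7 = true := by decide +kernel

set_option maxHeartbeats 4000000 in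
theorem chk_cert_2_2_8 : certOne 2 2 8 = true := by decide +kernel

set_option maxHeartbeats 4000000 in
theorem chk_cert_2_2_9 : certOne 2 2 9 = true := by decide +kernel

set_option maxHeartbeats 4000000 in
theorem chk_cert_2_2_10 : certOne 2 2 10 = true := by decide +kernel

set_option maxHeartbeats 4000000 in
theorem chk_cert_2_2_11 : certOne 2 2 11 = true := by decide +kernel

set_option maxHeartbeats 4000000 in
theorem chk_cert_2_2_12 : certOne 2 2 12 = true := by decide +kernel

set_option maxHeartbeats 4000000 in
theorem chk_cert_2_2_13 : certOne 2 2 13 = true := by decide +kernel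

set_option maxHeartbeats 4000000 in
theorem chk_cert_2_2_14 : certOne 2 2 14 = true := by decide +kernel

set_option maxHeartbeats 4000000 in
theorem chk_cert_2_2_15 : certOne 2 2 15 = true := by decide +kernel

set_option maxHeartbeats 4000000 in
theorem chk_cert_2_2_16 : certOne 2 2 16 = true := by decide +kernel

set_option maxHeartbeats 4000000 in
theorem chk_cert_2_2_17 : certOne 2 2 17 = true := by decide +kernel

set_option maxHeartbeats 4000000 in
theorem chk_cert_2_2_18 : certOne 2 2 18 = true := by decide +kernel

set_option maxHeartbeats 4000000 in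
theorem chk_cert_2_2_19 : certOne 2 2 19 = true := by decide +kernel

set_option maxHeartbeats 4000000 in
theorem chk_cert_2_2_20 : certOne 2 2 20 = true := by decide +kernel

theorem chk_cert22 : ∀ k < 21, certOne 2 2 k = true := by
  intro k hk
  interval_cases k
  · exact chk_cert_2_2_0
  · exact chk_cert_2_2_1
  · exact chk_cert_2_2_2
  · exact chk_cert_2_2_3
  · exact chk_cert_2_2_4
  · exact chk_cert_2_2_5
  · exact chk_cert_2_2_6
  · exact chk_cert_2_2_7
  · exact chk_cert_2_2_8
  · exact chk_cert_2_2_9
  · exact chk_cert_2_2_10
  · exact chk_cert_2_2_11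
  · exact chk_cert_2_2_12
  · exact chk_cert_2_2_13
  · exact chk_cert_2_2_14
  · exact chk_cert_2_2_15
  · exact chk_cert_2_2_16
  · exact chk_cert_2_2_17
  · exact chk_cert_2_2_18
  · exact chk_cert_2_2_19
  · exact chk_cert_2_2_20

end Cfsg.Agent.Lib.Helper5.M23Ext
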