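import Cfsg.Agent.Lib.Helper5.M23Ext.Defs

/-! # The non-split extension 2^11.M23: the certificates of level 4, generator 7 (kernel check) -/

set_option autoImplicit false
set_option maxRecDepth 1000000

namespace Cfsg.Agent.Lib.Helper5.M23Ext

set_option maxHeartbeats 4000000 in
theorem chk_cert_4_2_0 : certOne 4 2 0 = true := by decide +kernel

set_option maxHeartbeats 4000000 in
theorem chk_cert_4_2_1 : certOne 4 2 1 = true := by decide +kernel

set_option maxHeartbeats 4000000 in
theorem chk_cert_4_2_2 : certOne 4 2 2 = true := by decide +kernel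

set_option maxHeartbeats 4000000 in
theorem chk_cert_4_2_3 : certOne 4 2 3 = true := by decide +kernel

set_option maxHeartbeats 4000000 in
theorem chk_cert_4_2_4 : certOne 4 2 4 = true := by decide +kernel

set_option maxHeartbeats 4000000 in
theorem chk_cert_4_2_5 : certOne 4 2 5 = true := by decide +kernel

set_option maxHeartbeats 4000000 in
theorem chk_cert_4_2_6 : certOne 4 2 6 = true := by decide +kernel

set_option maxHeartbeats 4000000 in
theorem chk_cert_4_2_7 : certOne 4 2 7 = true := by decide +kernel

set_option maxHeartbeats 4000000 in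
theorem chk_cert_4_2_8 : certOne 4 2 8 = true := by decide +kernel

set_option maxHeartbeats 4000000 in
theorem chk_cert_4_2_9 : certOne 4 2 9 = true := by decide +kernel

set_option maxHeartbeats 4000000 in
theorem chk_cert_4_2_10 : certOne 4 2 10 = true := by decide +kernel

set_option maxHeartbeats 4000000 in
theorem chk_cert_4_2_11 : certOne 4 2 11 = true := by decide +kernel

set_option maxHeartbeats 4000000 in
theorem chk_cert_4_2_12 : certOne 4 2 12 = true := by decide +kernel

set_option maxHeartbeats 4000000 in
theorem chk_cert_4_2_13 : certOne 4 2 13 = true := by decide +kernel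

set_option maxHeartbeats 4000000 in
theorem chk_cert_4_2_14 : certOne 4 2 14 = true := by decide +kernel

set_option maxHeartbeats 4000000 in
theorem chk_cert_4_2_15 : certOne 4 2 15 = true := by decide +kernel

theorem chk_cert42 : ∀ k < 16, certOne 4 2 k = true := by
  intro k hk
  interval_cases k
  · exact chk_cert_4_2_0
  · exact chk_cert_4_2_1
  · exact chk_cert_4_2_2
  · exact chk_cert_4_2_3
  · exact chk_cert_4_2_4
  · exact chk_cert_4_2_5
  · exact chk_cert_4_2_6
  · exact chk_cert_4_2_7
  · exact chk_cert_4_2_8
  · exact chk_cert_4_2_9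
  · exact chk_cert_4_2_10
  · exact chk_cert_4_2_11
  · exact chk_cert_4_2_12
  · exact chk_cert_4_2_13
  · exact chk_cert_4_2_14
  · exact chk_cert_4_2_15

end Cfsg.Agent.Lib.Helper5.M23Ext
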