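import Cfsg.Agent.Lib.Helper5.M23Ext.Defs

/-! # The non-split extension 2^11.M23: the certificates of level 5, generator 7 (kernel check) -/

set_option autoImplicit false
set_option maxRecDepth 1000000

namespace Cfsg.Agent.Lib.Helper5.M23Ext

set_option maxHeartbeats 4000000 in
theorem chk_cert_5_0_0 : certOne 5 0 0 = true := by decide +kernel

set_option maxHeartbeats 4000000 in
theorem chk_cert_5_0_1 : certOne 5 0 1 = true := by decide +kernel

set_option maxHeartbeats 4000000 in
theorem chk_cert_5_0_2 : certOne 5 0 2 = true := by decide +kernel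

theorem chk_cert50 : ∀ k < 3, certOne 5 0 k = true := by
  intro k hk
  interval_cases k
  · exact chk_cert_5_0_0
  · exact chk_cert_5_0_1
  · exact chk_cert_5_0_2

end Cfsg.Agent.Lib.Helper5.M23Ext
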