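import Cfsg.Agent.Lib.Helper5.M23Ext.Defs

/-! # The non-split extension 2^11.M23: the involutions commute, part 0 (kernel check) -/

set_option autoImplicit false
set_option maxRecDepth 1000000

namespace Cfsg.Agent.Lib.Helper5.M23Ext

set_option maxHeartbeats 4000000 in
theorem chk_dcomm_1_0 : dcommOne 1 0 = true := by decide +kernel

theorem chk_dcomm1 : ∀ r < 1, dcommOne 1 r = true := by
  intro r hr
  interval_cases r
  · exact chk_dcomm_1_0

set_option maxHeartbeats 4000000 in
theorem chk_dcomm_2_0 : dcommOne 2 0 = true := by decide +kernel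

set_option maxHeartbeats 4000000 in
theorem chk_dcomm_2_1 : dcommOne 2 1 = true := by decide +kernel

theorem chk_dcomm2 : ∀ r < 2, dcommOne 2 r = true := by
  intro r hr
  interval_cases r
  · exact chk_dcomm_2_0
  · exact chk_dcomm_2_1

set_option maxHeartbeats 4000000 in
theorem chk_dcomm_3_0 : dcommOne 3 0 = true := by decide +kernel

set_option maxHeartbeats 4000000 in
theorem chk_dcomm_3_1 : dcommOne 3 1 = true := by decide +kernel

set_option maxHeartbeats 4000000 in
theorem chk_dcomm_3_2 : dcommOne 3 2 = true := by decide +kernel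

theorem chk_dcomm3 : ∀ r < 3, dcommOne 3 r = true := by
  intro r hr
  interval_cases r
  · exact chk_dcomm_3_0
  · exact chk_dcomm_3_1
  · exact chk_dcomm_3_2

set_option maxHeartbeats 4000000 in
theorem chk_dcomm_4_0 : dcommOne 4 0 = true := by decide +kernel

set_option maxHeartbeats 4000000 in
theorem chk_dcomm_4_1 : dcommOne 4 1 = true := by decide +kernel

set_option maxHeartbeats 4000000 in
theorem chk_dcomm_4_2 : dcommOne 4 2 = true := by decide +kernel

set_option maxHeartbeats 4000000 in
theorem chk_dcomm_4_3 : dcommOne 4 3 = true := by decide +kernel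

theorem chk_dcomm4 : ∀ r < 4, dcommOne 4 r = true := by
  intro r hr
  interval_cases r
  · exact chk_dcomm_4_0
  · exact chk_dcomm_4_1
  · exact chk_dcomm_4_2
  · exact chk_dcomm_4_3

set_option maxHeartbeats 4000000 in
theorem chk_dcomm_5_0 : dcommOne 5 0 = true := by decide +kernel

set_option maxHeartbeats 4000000 in
theorem chk_dcomm_5_1 : dcommOne 5 1 = true := by decide +kernel

set_option maxHeartbeats 4000000 in
theorem chk_dcomm_5_2 : dcommOne 5 2 = true := by decide +kernel

set_option maxHeartbeats 4000000 in
theorem chk_dcomm_5_3 : dcommOne 5 3 = true := by decide +kernel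

set_option maxHeartbeats 4000000 in
theorem chk_dcomm_5_4 : dcommOne 5 4 = true := by decide +kernel

theorem chk_dcomm5 : ∀ r < 5, dcommOne 5 r = true := by
  intro r hr
  interval_cases r
  · exact chk_dcomm_5_0
  · exact chk_dcomm_5_1
  · exact chk_dcomm_5_2
  · exact chk_dcomm_5_3
  · exact chk_dcomm_5_4

set_option maxHeartbeats 4000000 in
theorem chk_dcomm_6_0 : dcommOne 6 0 = true := by decide +kernel

set_option maxHeartbeats 4000000 in
theorem chk_dcomm_6_1 : dcommOne 6 1 = true := by decide +kernel

set_option maxHeartbeats 4000000 in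
theorem chk_dcomm_6_2 : dcommOne 6 2 = true := by decide +kernel

set_option maxHeartbeats 4000000 in
theorem chk_dcomm_6_3 : dcommOne 6 3 = true := by decide +kernel

set_option maxHeartbeats 4000000 in
theorem chk_dcomm_6_4 : dcommOne 6 4 = true := by decide +kernel

set_option maxHeartbeats 4000000 in
theorem chk_dcomm_6_5 : dcommOne 6 5 = true := by decide +kernel

theorem chk_dcomm6 : ∀ r < 6, dcommOne 6 r = true := by
  intro r hr
  interval_cases r
  · exact chk_dcomm_6_0
  · exact chk_dcomm_6_1
  · exact chk_dcomm_6_2
  · exact chk_dcomm_6_3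
  · exact chk_dcomm_6_4
  · exact chk_dcomm_6_5

set_option maxHeartbeats 4000000 in
theorem chk_dcomm_7_0 : dcommOne 7 0 = true := by decide +kernel

set_option maxHeartbeats 4000000 in
theorem chk_dcomm_7_1 : dcommOne 7 1 = true := by decide +kernel

set_option maxHeartbeats 4000000 in
theorem chk_dcomm_7_2 : dcommOne 7 2 = true := by decide +kernel

set_option maxHeartbeats 4000000 in
theorem chk_dcomm_7_3 : dcommOne 7 3 = true := by decide +kernel

set_option maxHeartbeats 4000000 in
theorem chk_dcomm_7_4 : dcommOne 7 4 = true := by decide +kernel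

set_option maxHeartbeats 4000000 in
theorem chk_dcomm_7_5 : dcommOne 7 5 = true := by decide +kernel

set_option maxHeartbeats 4000000 in
theorem chk_dcomm_7_6 : dcommOne 7 6 = true := by decide +kernel

theorem chk_dcomm7 : ∀ r < 7, dcommOne 7 r = true := by
  intro r hr
  interval_cases r
  · exact chk_dcomm_7_0
  · exact chk_dcomm_7_1
  · exact chk_dcomm_7_2
  · exact chk_dcomm_7_3
  · exact chk_dcomm_7_4
  · exact chk_dcomm_7_5
  · exact chk_dcomm_7_6

set_option maxHeartbeats 4000000 in
theorem chk_dcomm_8_0 : dcommOne 8 0 = true := by decide +kernel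

set_option maxHeartbeats 4000000 in
theorem chk_dcomm_8_1 : dcommOne 8 1 = true := by decide +kernel

set_option maxHeartbeats 4000000 in
theorem chk_dcomm_8_2 : dcommOne 8 2 = true := by decide +kernel

set_option maxHeartbeats 4000000 in
theorem chk_dcomm_8_3 : dcommOne 8 3 = true := by decide +kernel

set_option maxHeartbeats 4000000 in
theorem chk_dcomm_8_4 : dcommOne 8 4 = true := by decide +kernel

set_option maxHeartbeats 4000000 in
theorem chk_dcomm_8_5 : dcommOne 8 5 = true := by decide +kernel

set_option maxHeartbeats 4000000 in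
theorem chk_dcomm_8_6 : dcommOne 8 6 = true := by decide +kernel

set_option maxHeartbeats 4000000 in
theorem chk_dcomm_8_7 : dcommOne 8 7 = true := by decide +kernel

theorem chk_dcomm8 : ∀ r < 8, dcommOne 8 r = true := by
  intro r hr
  interval_cases r
  · exact chk_dcomm_8_0
  · exact chk_dcomm_8_1
  · exact chk_dcomm_8_2
  · exact chk_dcomm_8_3
  · exact chk_dcomm_8_4
  · exact chk_dcomm_8_5
  · exact chk_dcomm_8_6
  · exact chk_dcomm_8_7

set_option maxHeartbeats 4000000 in
theorem chk_dcomm_9_0 : dcommOne 9 0 = true := by decide +kernel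

set_option maxHeartbeats 4000000 in
theorem chk_dcomm_9_1 : dcommOne 9 1 = true := by decide +kernel

set_option maxHeartbeats 4000000 in
theorem chk_dcomm_9_2 : dcommOne 9 2 = true := by decide +kernel

set_option maxHeartbeats 4000000 in
theorem chk_dcomm_9_3 : dcommOne 9 3 = true := by decide +kernel

set_option maxHeartbeats 4000000 in
theorem chk_dcomm_9_4 : dcommOne 9 4 = true := by decide +kernel

set_option maxHeartbeats 4000000 in
theorem chk_dcomm_9_5 : dcommOne 9 5 = true := by decide +kernel

set_option maxHeartbeats 4000000 in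
theorem chk_dcomm_9_6 : dcommOne 9 6 = true := by decide +kernel

set_option maxHeartbeats 4000000 in
theorem chk_dcomm_9_7 : dcommOne 9 7 = true := by decide +kernel

set_option maxHeartbeats 4000000 in
theorem chk_dcomm_9_8 : dcommOne 9 8 = true := by decide +kernel

theorem chk_dcomm9 : ∀ r < 9, dcommOne 9 r = true := by
  intro r hr
  interval_cases r
  · exact chk_dcomm_9_0
  · exact chk_dcomm_9_1
  · exact chk_dcomm_9_2
  · exact chk_dcomm_9_3
  · exact chk_dcomm_9_4
  · exact chk_dcomm_9_5
  · exact chk_dcomm_9_6
  · exact chk_dcomm_9_7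
  · exact chk_dcomm_9_8

set_option maxHeartbeats 4000000 in
theorem chk_dcomm_10_0 : dcommOne 10 0 = true := by decide +kernel

set_option maxHeartbeats 4000000 in
theorem chk_dcomm_10_1 : dcommOne 10 1 = true := by decide +kernel

set_option maxHeartbeats 4000000 in
theorem chk_dcomm_10_2 : dcommOne 10 2 = true := by decide +kernel

set_option maxHeartbeats 4000000 in
theorem chk_dcomm_10_3 : dcommOne 10 3 = true := by decide +kernel

set_option maxHeartbeats 4000000 in
theorem chk_dcomm_10_4 : dcommOne 10 4 = true := by decide +kernel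

set_option maxHeartbeats 4000000 in
theorem chk_dcomm_10_5 : dcommOne 10 5 = true := by decide +kernel

set_option maxHeartbeats 4000000 in
theorem chk_dcomm_10_6 : dcommOne 10 6 = true := by decide +kernel

set_option maxHeartbeats 4000000 in
theorem chk_dcomm_10_7 : dcommOne 10 7 = true := by decide +kernel

set_option maxHeartbeats 4000000 in
theorem chk_dcomm_10_8 : dcommOne 10 8 = true := by decide +kernel

set_option maxHeartbeats 4000000 in
theorem chk_dcomm_10_9 : dcommOne 10 9 = true := by decide +kernel

theorem chk_dcomm10 : ∀ r < 10, dcommOne 10 r = true := by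
  intro r hr
  interval_cases r
  · exact chk_dcomm_10_0
  · exact chk_dcomm_10_1
  · exact chk_dcomm_10_2
  · exact chk_dcomm_10_3
  · exact chk_dcomm_10_4
  · exact chk_dcomm_10_5
  · exact chk_dcomm_10_6
  · exact chk_dcomm_10_7
  · exact chk_dcomm_10_8
  · exact chk_dcomm_10_9

set_option maxHeartbeats 4000000 in
theorem chk_dcomm_11_0 : dcommOne 11 0 = true := by decide +kernel

set_option maxHeartbeats 4000000 in
theorem chk_dcomm_11_1 : dcommOne 11 1 = true := by decide +kernel

set_option maxHeartbeats 4000000 in
theorem chk_dcomm_11_2 : dcommOne 11 2 = true := by decide +kernel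

set_option maxHeartbeats 4000000 in
theorem chk_dcomm_11_3 : dcommOne 11 3 = true := by decide +kernel

set_option maxHeartbeats 4000000 in
theorem chk_dcomm_11_4 : dcommOne 11 4 = true := by decide +kernel

set_option maxHeartbeats 4000000 in
theorem chk_dcomm_11_5 : dcommOne 11 5 = true := by decide +kernel

set_option maxHeartbeats 4000000 in
theorem chk_dcomm_11_6 : dcommOne 11 6 = true := by decide +kernel

set_option maxHeartbeats 4000000 in
theorem chk_dcomm_11_7 : dcommOne 11 7 = true := by decide +kernel

set_option maxHeartbeats 4000000 in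
theorem chk_dcomm_11_8 : dcommOne 11 8 = true := by decide +kernel

set_option maxHeartbeats 4000000 in
theorem chk_dcomm_11_9 : dcommOne 11 9 = true := by decide +kernel

set_option maxHeartbeats 4000000 in
theorem chk_dcomm_11_10 : dcommOne 11 10 = true := by decide +kernel

theorem chk_dcomm11 : ∀ r < 11, dcommOne 11 r = true := by
  intro r hr
  interval_cases r
  · exact chk_dcomm_11_0
  · exact chk_dcomm_11_1
  · exact chk_dcomm_11_2
  · exact chk_dcomm_11_3
  · exact chk_dcomm_11_4
  · exact chk_dcomm_11_5
  · exact chk_dcomm_11_6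
  · exact chk_dcomm_11_7
  · exact chk_dcomm_11_8
  · exact chk_dcomm_11_9
  · exact chk_dcomm_11_10

theorem chk_dcommP0 : ∀ q, 1 ≤ q → q < 12 → ∀ r < q, dcommOne q r = true := by
  intro q h1 h2
  interval_cases q
  · exact chk_dcomm1
  · exact chk_dcomm2
  · exact chk_dcomm3
  · exact chk_dcomm4
  · exact chk_dcomm5
  · exact chk_dcomm6
  · exact chk_dcomm7
  · exact chk_dcomm8
  · exact chk_dcomm9
  · exact chk_dcomm10
  · exact chk_dcomm11

end Cfsg.Agent.Lib.Helper5.M23Ext
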