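import Cfsg.Agent.Lib.Helper5.M23Ext.Defs

/-! # The non-split extension 2^11.M23: the involutions commute, part 1 (kernel check) -/

set_option autoImplicit false
set_option maxRecDepth 1000000

namespace Cfsg.Agent.Lib.Helper5.M23Ext

set_option maxHeartbeats 4000000 in
theorem chk_dcomm_12_0 : dcommOne 12 0 = true := by decide +kernel

set_option maxHeartbeats 4000000 in
theorem chk_dcomm_12_1 : dcommOne 12 1 = true := by decide +kernel

set_option maxHeartbeats 4000000 in
theorem chk_dcomm_12_2 : dcommOne 12 2 = true := by decide +kernel

set_option maxHeartbeats 4000000 in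
theorem chk_dcomm_12_3 : dcommOne 12 3 = true := by decide +kernel

set_option maxHeartbeats 4000000 in
theorem chk_dcomm_12_4 : dcommOne 12 4 = true := by decide +kernel

set_option maxHeartbeats 4000000 in
theorem chk_dcomm_12_5 : dcommOne 12 5 = true := by decide +kernel

set_option maxHeartbeats 4000000 in
theorem chk_dcomm_12_6 : dcommOne 12 6 = true := by decide +kernel

set_option maxHeartbeats 4000000 in
theorem chk_dcomm_12_7 : dcommOne 12 7 = true := by decide +kernel

set_option maxHeartbeats 4000000 in
theorem chk_dcomm_12_8 : dcommOne 12 8 = true := by decide +kernel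

set_option maxHeartbeats 4000000 in
theorem chk_dcomm_12_9 : dcommOne 12 9 = true := by decide +kernel

set_option maxHeartbeats 4000000 in
theorem chk_dcomm_12_10 : dcommOne 12 10 = true := by decide +kernel

set_option maxHeartbeats 4000000 in
theorem chk_dcomm_12_11 : dcommOne 12 11 = true := by decide +kernel

theorem chk_dcomm12 : ∀ r < 12, dcommOne 12 r = true := by
  intro r hr
  interval_cases r
  · exact chk_dcomm_12_0
  · exact chk_dcomm_12_1
  · exact chk_dcomm_12_2
  · exact chk_dcomm_12_3
  · exact chk_dcomm_12_4
  · exact chk_dcomm_12_5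
  · exact chk_dcomm_12_6
  · exact chk_dcomm_12_7
  · exact chk_dcomm_12_8
  · exact chk_dcomm_12_9
  · exact chk_dcomm_12_10
  · exact chk_dcomm_12_11

set_option maxHeartbeats 4000000 in
theorem chk_dcomm_13_0 : dcommOne 13 0 = true := by decide +kernel

set_option maxHeartbeats 4000000 in
theorem chk_dcomm_13_1 : dcommOne 13 1 = true := by decide +kernel

set_option maxHeartbeats 4000000 in
theorem chk_dcomm_13_2 : dcommOne 13 2 = true := by decide +kernel

set_option maxHeartbeats 4000000 in
theorem chk_dcomm_13_3 : dcommOne 13 3 = true := by decide +kernel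

set_option maxHeartbeats 4000000 in
theorem chk_dcomm_13_4 : dcommOne 13 4 = true := by decide +kernel

set_option maxHeartbeats 4000000 in
theorem chk_dcomm_13_5 : dcommOne 13 5 = true := by decide +kernel

set_option maxHeartbeats 4000000 in
theorem chk_dcomm_13_6 : dcommOne 13 6 = true := by decide +kernel

set_option maxHeartbeats 4000000 in
theorem chk_dcomm_13_7 : dcommOne 13 7 = true := by decide +kernel

set_option maxHeartbeats 4000000 in
theorem chk_dcomm_13_8 : dcommOne 13 8 = true := by decide +kernel

set_option maxHeartbeats 4000000 in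
theorem chk_dcomm_13_9 : dcommOne 13 9 = true := by decide +kernel

set_option maxHeartbeats 4000000 in
theorem chk_dcomm_13_10 : dcommOne 13 10 = true := by decide +kernel

set_option maxHeartbeats 4000000 in
theorem chk_dcomm_13_11 : dcommOne 13 11 = true := by decide +kernel

set_option maxHeartbeats 4000000 in
theorem chk_dcomm_13_12 : dcommOne 13 12 = true := by decide +kernel

theorem chk_dcomm13 : ∀ r < 13, dcommOne 13 r = true := by
  intro r hr
  interval_cases r
  · exact chk_dcomm_13_0
  · exact chk_dcomm_13_1
  · exact chk_dcomm_13_2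
  · exact chk_dcomm_13_3
  · exact chk_dcomm_13_4
  · exact chk_dcomm_13_5
  · exact chk_dcomm_13_6
  · exact chk_dcomm_13_7
  · exact chk_dcomm_13_8
  · exact chk_dcomm_13_9
  · exact chk_dcomm_13_10
  · exact chk_dcomm_13_11
  · exact chk_dcomm_13_12

set_option maxHeartbeats 4000000 in
theorem chk_dcomm_14_0 : dcommOne 14 0 = true := by decide +kernel

set_option maxHeartbeats 4000000 in
theorem chk_dcomm_14_1 : dcommOne 14 1 = true := by decide +kernel

set_option maxHeartbeats 4000000 in
theorem chk_dcomm_14_2 : dcommOne 14 2 = true := by decide +kernel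

set_option maxHeartbeats 4000000 in
theorem chk_dcomm_14_3 : dcommOne 14 3 = true := by decide +kernel

set_option maxHeartbeats 4000000 in
theorem chk_dcomm_14_4 : dcommOne 14 4 = true := by decide +kernel

set_option maxHeartbeats 4000000 in
theorem chk_dcomm_14_5 : dcommOne 14 5 = true := by decide +kernel

set_option maxHeartbeats 4000000 in
theorem chk_dcomm_14_6 : dcommOne 14 6 = true := by decide +kernel

set_option maxHeartbeats 4000000 in
theorem chk_dcomm_14_7 : dcommOne 14 7 = true := by decide +kernel

set_option maxHeartbeats 4000000 in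
theorem chk_dcomm_14_8 : dcommOne 14 8 = true := by decide +kernel

set_option maxHeartbeats 4000000 in
theorem chk_dcomm_14_9 : dcommOne 14 9 = true := by decide +kernel

set_option maxHeartbeats 4000000 in
theorem chk_dcomm_14_10 : dcommOne 14 10 = true := by decide +kernel

set_option maxHeartbeats 4000000 in
theorem chk_dcomm_14_11 : dcommOne 14 11 = true := by decide +kernel

set_option maxHeartbeats 4000000 in
theorem chk_dcomm_14_12 : dcommOne 14 12 = true := by decide +kernel

set_option maxHeartbeats 4000000 in
theorem chk_dcomm_14_13 : dcommOne 14 13 = true := by decide +kernel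

theorem chk_dcomm14 : ∀ r < 14, dcommOne 14 r = true := by
  intro r hr
  interval_cases r
  · exact chk_dcomm_14_0
  · exact chk_dcomm_14_1
  · exact chk_dcomm_14_2
  · exact chk_dcomm_14_3
  · exact chk_dcomm_14_4
  · exact chk_dcomm_14_5
  · exact chk_dcomm_14_6
  · exact chk_dcomm_14_7
  · exact chk_dcomm_14_8
  · exact chk_dcomm_14_9
  · exact chk_dcomm_14_10
  · exact chk_dcomm_14_11
  · exact chk_dcomm_14_12
  · exact chk_dcomm_14_13

set_option maxHeartbeats 4000000 in
theorem chk_dcomm_15_0 : dcommOne 15 0 = true := by decide +kernel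

set_option maxHeartbeats 4000000 in
theorem chk_dcomm_15_1 : dcommOne 15 1 = true := by decide +kernel

set_option maxHeartbeats 4000000 in
theorem chk_dcomm_15_2 : dcommOne 15 2 = true := by decide +kernel

set_option maxHeartbeats 4000000 in
theorem chk_dcomm_15_3 : dcommOne 15 3 = true := by decide +kernel

set_option maxHeartbeats 4000000 in
theorem chk_dcomm_15_4 : dcommOne 15 4 = true := by decide +kernel

set_option maxHeartbeats 4000000 in
theorem chk_dcomm_15_5 : dcommOne 15 5 = true := by decide +kernel

set_option maxHeartbeats 4000000 in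
theorem chk_dcomm_15_6 : dcommOne 15 6 = true := by decide +kernel

set_option maxHeartbeats 4000000 in
theorem chk_dcomm_15_7 : dcommOne 15 7 = true := by decide +kernel

set_option maxHeartbeats 4000000 in
theorem chk_dcomm_15_8 : dcommOne 15 8 = true := by decide +kernel

set_option maxHeartbeats 4000000 in
theorem chk_dcomm_15_9 : dcommOne 15 9 = true := by decide +kernel

set_option maxHeartbeats 4000000 in
theorem chk_dcomm_15_10 : dcommOne 15 10 = true := by decide +kernel

set_option maxHeartbeats 4000000 in
theorem chk_dcomm_15_11 : dcommOne 15 11 = true := by decide +kernel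

set_option maxHeartbeats 4000000 in
theorem chk_dcomm_15_12 : dcommOne 15 12 = true := by decide +kernel

set_option maxHeartbeats 4000000 in
theorem chk_dcomm_15_13 : dcommOne 15 13 = true := by decide +kernel

set_option maxHeartbeats 4000000 in
theorem chk_dcomm_15_14 : dcommOne 15 14 = true := by decide +kernel

theorem chk_dcomm15 : ∀ r < 15, dcommOne 15 r = true := by
  intro r hr
  interval_cases r
  · exact chk_dcomm_15_0
  · exact chk_dcomm_15_1
  · exact chk_dcomm_15_2
  · exact chk_dcomm_15_3
  · exact chk_dcomm_15_4
  · exact chk_dcomm_15_5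
  · exact chk_dcomm_15_6
  · exact chk_dcomm_15_7
  · exact chk_dcomm_15_8
  · exact chk_dcomm_15_9
  · exact chk_dcomm_15_10
  · exact chk_dcomm_15_11
  · exact chk_dcomm_15_12
  · exact chk_dcomm_15_13
  · exact chk_dcomm_15_14

set_option maxHeartbeats 4000000 in
theorem chk_dcomm_16_0 : dcommOne 16 0 = true := by decide +kernel

set_option maxHeartbeats 4000000 in
theorem chk_dcomm_16_1 : dcommOne 16 1 = true := by decide +kernel

set_option maxHeartbeats 4000000 in
theorem chk_dcomm_16_2 : dcommOne 16 2 = true := by decide +kernel

set_option maxHeartbeats 4000000 in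
theorem chk_dcomm_16_3 : dcommOne 16 3 = true := by decide +kernel

set_option maxHeartbeats 4000000 in
theorem chk_dcomm_16_4 : dcommOne 16 4 = true := by decide +kernel

set_option maxHeartbeats 4000000 in
theorem chk_dcomm_16_5 : dcommOne 16 5 = true := by decide +kernel

set_option maxHeartbeats 4000000 in
theorem chk_dcomm_16_6 : dcommOne 16 6 = true := by decide +kernel

set_option maxHeartbeats 4000000 in
theorem chk_dcomm_16_7 : dcommOne 16 7 = true := by decide +kernel

set_option maxHeartbeats 4000000 in
theorem chk_dcomm_16_8 : dcommOne 16 8 = true := by decide +kernel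

set_option maxHeartbeats 4000000 in
theorem chk_dcomm_16_9 : dcommOne 16 9 = true := by decide +kernel

set_option maxHeartbeats 4000000 in
theorem chk_dcomm_16_10 : dcommOne 16 10 = true := by decide +kernel

set_option maxHeartbeats 4000000 in
theorem chk_dcomm_16_11 : dcommOne 16 11 = true := by decide +kernel

set_option maxHeartbeats 4000000 in
theorem chk_dcomm_16_12 : dcommOne 16 12 = true := by decide +kernel

set_option maxHeartbeats 4000000 in
theorem chk_dcomm_16_13 : dcommOne 16 13 = true := by decide +kernel

set_option maxHeartbeats 4000000 in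
theorem chk_dcomm_16_14 : dcommOne 16 14 = true := by decide +kernel

set_option maxHeartbeats 4000000 in
theorem chk_dcomm_16_15 : dcommOne 16 15 = true := by decide +kernel

theorem chk_dcomm16 : ∀ r < 16, dcommOne 16 r = true := by
  intro r hr
  interval_cases r
  · exact chk_dcomm_16_0
  · exact chk_dcomm_16_1
  · exact chk_dcomm_16_2
  · exact chk_dcomm_16_3
  · exact chk_dcomm_16_4
  · exact chk_dcomm_16_5
  · exact chk_dcomm_16_6
  · exact chk_dcomm_16_7
  · exact chk_dcomm_16_8
  · exact chk_dcomm_16_9
  · exact chk_dcomm_16_10
  · exact chk_dcomm_16_11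
  · exact chk_dcomm_16_12
  · exact chk_dcomm_16_13
  · exact chk_dcomm_16_14
  · exact chk_dcomm_16_15

theorem chk_dcommP1 : ∀ q, 12 ≤ q → q < 17 → ∀ r < q, dcommOne q r = true := by
  intro q h1 h2
  interval_cases q
  · exact chk_dcomm12
  · exact chk_dcomm13
  · exact chk_dcomm14
  · exact chk_dcomm15
  · exact chk_dcomm16

end Cfsg.Agent.Lib.Helper5.M23Ext
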