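import Cfsg.Agent.Lib.Helper5.M23Ext.Defs

/-! # The non-split extension 2^11.M23: the involutions commute, part 2 (kernel check) -/

set_option autoImplicit false
set_option maxRecDepth 1000000

namespace Cfsg.Agent.Lib.Helper5.M23Ext

set_option maxHeartbeats 4000000 in
theorem chk_dcomm_17_0 : dcommOne 17 0 = true := by decide +kernel

set_option maxHeartbeats 4000000 in
theorem chk_dcomm_17_1 : dcommOne 17 1 = true := by decide +kernel

set_option maxHeartbeats 4000000 in
theorem chk_dcomm_17_2 : dcommOne 17 2 = true := by decide +kernel

set_option maxHeartbeats 4000000 in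
theorem chk_dcomm_17_3 : dcommOne 17 3 = true := by decide +kernel

set_option maxHeartbeats 4000000 in
theorem chk_dcomm_17_4 : dcommOne 17 4 = true := by decide +kernel

set_option maxHeartbeats 4000000 in
theorem chk_dcomm_17_5 : dcommOne 17 5 = true := by decide +kernel

set_option maxHeartbeats 4000000 in
theorem chk_dcomm_17_6 : dcommOne 17 6 = true := by decide +kernel

set_option maxHeartbeats 4000000 in
theorem chk_dcomm_17_7 : dcommOne 17 7 = true := by decide +kernel

set_option maxHeartbeats 4000000 in
theorem chk_dcomm_17_8 : dcommOne 17 8 = true := by decide +kernel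

set_option maxHeartbeats 4000000 in
theorem chk_dcomm_17_9 : dcommOne 17 9 = true := by decide +kernel

set_option maxHeartbeats 4000000 in
theorem chk_dcomm_17_10 : dcommOne 17 10 = true := by decide +kernel

set_option maxHeartbeats 4000000 in
theorem chk_dcomm_17_11 : dcommOne 17 11 = true := by decide +kernel

set_option maxHeartbeats 4000000 in
theorem chk_dcomm_17_12 : dcommOne 17 12 = true := by decide +kernel

set_option maxHeartbeats 4000000 in
theorem chk_dcomm_17_13 : dcommOne 17 13 = true := by decide +kernel

set_option maxHeartbeats 4000000 in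
theorem chk_dcomm_17_14 : dcommOne 17 14 = true := by decide +kernel

set_option maxHeartbeats 4000000 in
theorem chk_dcomm_17_15 : dcommOne 17 15 = true := by decide +kernel

set_option maxHeartbeats 4000000 in
theorem chk_dcomm_17_16 : dcommOne 17 16 = true := by decide +kernel

theorem chk_dcomm17 : ∀ r < 17, dcommOne 17 r = true := by
  intro r hr
  interval_cases r
  · exact chk_dcomm_17_0
  · exact chk_dcomm_17_1
  · exact chk_dcomm_17_2
  · exact chk_dcomm_17_3
  · exact chk_dcomm_17_4
  · exact chk_dcomm_17_5
  · exact chk_dcomm_17_6
  · exact chk_dcomm_17_7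
  · exact chk_dcomm_17_8
  · exact chk_dcomm_17_9
  · exact chk_dcomm_17_10
  · exact chk_dcomm_17_11
  · exact chk_dcomm_17_12
  · exact chk_dcomm_17_13
  · exact chk_dcomm_17_14
  · exact chk_dcomm_17_15
  · exact chk_dcomm_17_16

set_option maxHeartbeats 4000000 in
theorem chk_dcomm_18_0 : dcommOne 18 0 = true := by decide +kernel

set_option maxHeartbeats 4000000 in
theorem chk_dcomm_18_1 : dcommOne 18 1 = true := by decide +kernel

set_option maxHeartbeats 4000000 in
theorem chk_dcomm_18_2 : dcommOne 18 2 = true := by decide +kernel

set_option maxHeartbeats 4000000 in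
theorem chk_dcomm_18_3 : dcommOne 18 3 = true := by decide +kernel

set_option maxHeartbeats 4000000 in
theorem chk_dcomm_18_4 : dcommOne 18 4 = true := by decide +kernel

set_option maxHeartbeats 4000000 in
theorem chk_dcomm_18_5 : dcommOne 18 5 = true := by decide +kernel

set_option maxHeartbeats 4000000 in
theorem chk_dcomm_18_6 : dcommOne 18 6 = true := by decide +kernel

set_option maxHeartbeats 4000000 in
theorem chk_dcomm_18_7 : dcommOne 18 7 = true := by decide +kernel

set_option maxHeartbeats 4000000 in
theorem chk_dcomm_18_8 : dcommOne 18 8 = true := by decide +kernel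

set_option maxHeartbeats 4000000 in
theorem chk_dcomm_18_9 : dcommOne 18 9 = true := by decide +kernel

set_option maxHeartbeats 4000000 in
theorem chk_dcomm_18_10 : dcommOne 18 10 = true := by decide +kernel

set_option maxHeartbeats 4000000 in
theorem chk_dcomm_18_11 : dcommOne 18 11 = true := by decide +kernel

set_option maxHeartbeats 4000000 in
theorem chk_dcomm_18_12 : dcommOne 18 12 = true := by decide +kernel

set_option maxHeartbeats 4000000 in
theorem chk_dcomm_18_13 : dcommOne 18 13 = true := by decide +kernel

set_option maxHeartbeats 4000000 in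
theorem chk_dcomm_18_14 : dcommOne 18 14 = true := by decide +kernel

set_option maxHeartbeats 4000000 in
theorem chk_dcomm_18_15 : dcommOne 18 15 = true := by decide +kernel

set_option maxHeartbeats 4000000 in
theorem chk_dcomm_18_16 : dcommOne 18 16 = true := by decide +kernel

set_option maxHeartbeats 4000000 in
theorem chk_dcomm_18_17 : dcommOne 18 17 = true := by decide +kernel

theorem chk_dcomm18 : ∀ r < 18, dcommOne 18 r = true := by
  intro r hr
  interval_cases r
  · exact chk_dcomm_18_0
  · exact chk_dcomm_18_1
  · exact chk_dcomm_18_2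
  · exact chk_dcomm_18_3
  · exact chk_dcomm_18_4
  · exact chk_dcomm_18_5
  · exact chk_dcomm_18_6
  · exact chk_dcomm_18_7
  · exact chk_dcomm_18_8
  · exact chk_dcomm_18_9
  · exact chk_dcomm_18_10
  · exact chk_dcomm_18_11
  · exact chk_dcomm_18_12
  · exact chk_dcomm_18_13
  · exact chk_dcomm_18_14
  · exact chk_dcomm_18_15
  · exact chk_dcomm_18_16
  · exact chk_dcomm_18_17

set_option maxHeartbeats 4000000 in
theorem chk_dcomm_19_0 : dcommOne 19 0 = true := by decide +kernel

set_option maxHeartbeats 4000000 in
theorem chk_dcomm_19_1 : dcommOne 19 1 = true := by decide +kernel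

set_option maxHeartbeats 4000000 in
theorem chk_dcomm_19_2 : dcommOne 19 2 = true := by decide +kernel

set_option maxHeartbeats 4000000 in
theorem chk_dcomm_19_3 : dcommOne 19 3 = true := by decide +kernel

set_option maxHeartbeats 4000000 in
theorem chk_dcomm_19_4 : dcommOne 19 4 = true := by decide +kernel

set_option maxHeartbeats 4000000 in
theorem chk_dcomm_19_5 : dcommOne 19 5 = true := by decide +kernel

set_option maxHeartbeats 4000000 in
theorem chk_dcomm_19_6 : dcommOne 19 6 = true := by decide +kernel

set_option maxHeartbeats 4000000 in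
theorem chk_dcomm_19_7 : dcommOne 19 7 = true := by decide +kernel

set_option maxHeartbeats 4000000 in
theorem chk_dcomm_19_8 : dcommOne 19 8 = true := by decide +kernel

set_option maxHeartbeats 4000000 in
theorem chk_dcomm_19_9 : dcommOne 19 9 = true := by decide +kernel

set_option maxHeartbeats 4000000 in
theorem chk_dcomm_19_10 : dcommOne 19 10 = true := by decide +kernel

set_option maxHeartbeats 4000000 in
theorem chk_dcomm_19_11 : dcommOne 19 11 = true := by decide +kernel

set_option maxHeartbeats 4000000 in
theorem chk_dcomm_19_12 : dcommOne 19 12 = true := by decide +kernel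

set_option maxHeartbeats 4000000 in
theorem chk_dcomm_19_13 : dcommOne 19 13 = true := by decide +kernel

set_option maxHeartbeats 4000000 in
theorem chk_dcomm_19_14 : dcommOne 19 14 = true := by decide +kernel

set_option maxHeartbeats 4000000 in
theorem chk_dcomm_19_15 : dcommOne 19 15 = true := by decide +kernel

set_option maxHeartbeats 4000000 in
theorem chk_dcomm_19_16 : dcommOne 19 16 = true := by decide +kernel

set_option maxHeartbeats 4000000 in
theorem chk_dcomm_19_17 : dcommOne 19 17 = true := by decide +kernel

set_option maxHeartbeats 4000000 in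
theorem chk_dcomm_19_18 : dcommOne 19 18 = true := by decide +kernel

theorem chk_dcomm19 : ∀ r < 19, dcommOne 19 r = true := by
  intro r hr
  interval_cases r
  · exact chk_dcomm_19_0
  · exact chk_dcomm_19_1
  · exact chk_dcomm_19_2
  · exact chk_dcomm_19_3
  · exact chk_dcomm_19_4
  · exact chk_dcomm_19_5
  · exact chk_dcomm_19_6
  · exact chk_dcomm_19_7
  · exact chk_dcomm_19_8
  · exact chk_dcomm_19_9
  · exact chk_dcomm_19_10
  · exact chk_dcomm_19_11
  · exact chk_dcomm_19_12
  · exact chk_dcomm_19_13
  · exact chk_dcomm_19_14
  · exact chk_dcomm_19_15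
  · exact chk_dcomm_19_16
  · exact chk_dcomm_19_17
  · exact chk_dcomm_19_18

set_option maxHeartbeats 4000000 in
theorem chk_dcomm_20_0 : dcommOne 20 0 = true := by decide +kernel

set_option maxHeartbeats 4000000 in
theorem chk_dcomm_20_1 : dcommOne 20 1 = true := by decide +kernel

set_option maxHeartbeats 4000000 in
theorem chk_dcomm_20_2 : dcommOne 20 2 = true := by decide +kernel

set_option maxHeartbeats 4000000 in
theorem chk_dcomm_20_3 : dcommOne 20 3 = true := by decide +kernel

set_option maxHeartbeats 4000000 in
theorem chk_dcomm_20_4 : dcommOne 20 4 = true := by decide +kernel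

set_option maxHeartbeats 4000000 in
theorem chk_dcomm_20_5 : dcommOne 20 5 = true := by decide +kernel

set_option maxHeartbeats 4000000 in
theorem chk_dcomm_20_6 : dcommOne 20 6 = true := by decide +kernel

set_option maxHeartbeats 4000000 in
theorem chk_dcomm_20_7 : dcommOne 20 7 = true := by decide +kernel

set_option maxHeartbeats 4000000 in
theorem chk_dcomm_20_8 : dcommOne 20 8 = true := by decide +kernel

set_option maxHeartbeats 4000000 in
theorem chk_dcomm_20_9 : dcommOne 20 9 = true := by decide +kernel

set_option maxHeartbeats 4000000 in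
theorem chk_dcomm_20_10 : dcommOne 20 10 = true := by decide +kernel

set_option maxHeartbeats 4000000 in
theorem chk_dcomm_20_11 : dcommOne 20 11 = true := by decide +kernel

set_option maxHeartbeats 4000000 in
theorem chk_dcomm_20_12 : dcommOne 20 12 = true := by decide +kernel

set_option maxHeartbeats 4000000 in
theorem chk_dcomm_20_13 : dcommOne 20 13 = true := by decide +kernel

set_option maxHeartbeats 4000000 in
theorem chk_dcomm_20_14 : dcommOne 20 14 = true := by decide +kernel

set_option maxHeartbeats 4000000 in
theorem chk_dcomm_20_15 : dcommOne 20 15 = true := by decide +kernel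

set_option maxHeartbeats 4000000 in
theorem chk_dcomm_20_16 : dcommOne 20 16 = true := by decide +kernel

set_option maxHeartbeats 4000000 in
theorem chk_dcomm_20_17 : dcommOne 20 17 = true := by decide +kernel

set_option maxHeartbeats 4000000 in
theorem chk_dcomm_20_18 : dcommOne 20 18 = true := by decide +kernel

set_option maxHeartbeats 4000000 in
theorem chk_dcomm_20_19 : dcommOne 20 19 = true := by decide +kernel

theorem chk_dcomm20 : ∀ r < 20, dcommOne 20 r = true := by
  intro r hr
  interval_cases r
  · exact chk_dcomm_20_0
  · exact chk_dcomm_20_1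
  · exact chk_dcomm_20_2
  · exact chk_dcomm_20_3
  · exact chk_dcomm_20_4
  · exact chk_dcomm_20_5
  · exact chk_dcomm_20_6
  · exact chk_dcomm_20_7
  · exact chk_dcomm_20_8
  · exact chk_dcomm_20_9
  · exact chk_dcomm_20_10
  · exact chk_dcomm_20_11
  · exact chk_dcomm_20_12
  · exact chk_dcomm_20_13
  · exact chk_dcomm_20_14
  · exact chk_dcomm_20_15
  · exact chk_dcomm_20_16
  · exact chk_dcomm_20_17
  · exact chk_dcomm_20_18
  · exact chk_dcomm_20_19

theorem chk_dcommP2 : ∀ q, 17 ≤ q → q < 21 → ∀ r < q, dcommOne q r = true := by
  intro q h1 h2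
  interval_cases q
  · exact chk_dcomm17
  · exact chk_dcomm18
  · exact chk_dcomm19
  · exact chk_dcomm20

end Cfsg.Agent.Lib.Helper5.M23Ext
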