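import Cfsg.Agent.Lib.Helper5.M23Ext.Defs

/-! # The non-split extension 2^11.M23: the involutions commute, part 3 (kernel check) -/

set_option autoImplicit false
set_option maxRecDepth 1000000

namespace Cfsg.Agent.Lib.Helper5.M23Ext

set_option maxHeartbeats 4000000 in
theorem chk_dcomm_21_0 : dcommOne 21 0 = true := by decide +kernel

set_option maxHeartbeats 4000000 in
theorem chk_dcomm_21_1 : dcommOne 21 1 = true := by decide +kernel

set_option maxHeartbeats 4000000 in
theorem chk_dcomm_21_2 : dcommOne 21 2 = true := by decide +kernel

set_option maxHeartbeats 4000000 in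
theorem chk_dcomm_21_3 : dcommOne 21 3 = true := by decide +kernel

set_option maxHeartbeats 4000000 in
theorem chk_dcomm_21_4 : dcommOne 21 4 = true := by decide +kernel

set_option maxHeartbeats 4000000 in
theorem chk_dcomm_21_5 : dcommOne 21 5 = true := by decide +kernel

set_option maxHeartbeats 4000000 in
theorem chk_dcomm_21_6 : dcommOne 21 6 = true := by decide +kernel

set_option maxHeartbeats 4000000 in
theorem chk_dcomm_21_7 : dcommOne 21 7 = true := by decide +kernel

set_option maxHeartbeats 4000000 in
theorem chk_dcomm_21_8 : dcommOne 21 8 = true := by decide +kernel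

set_option maxHeartbeats 4000000 in
theorem chk_dcomm_21_9 : dcommOne 21 9 = true := by decide +kernel

set_option maxHeartbeats 4000000 in
theorem chk_dcomm_21_10 : dcommOne 21 10 = true := by decide +kernel

set_option maxHeartbeats 4000000 in
theorem chk_dcomm_21_11 : dcommOne 21 11 = true := by decide +kernel

set_option maxHeartbeats 4000000 in
theorem chk_dcomm_21_12 : dcommOne 21 12 = true := by decide +kernel

set_option maxHeartbeats 4000000 in
theorem chk_dcomm_21_13 : dcommOne 21 13 = true := by decide +kernel

set_option maxHeartbeats 4000000 in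
theorem chk_dcomm_21_14 : dcommOne 21 14 = true := by decide +kernel

set_option maxHeartbeats 4000000 in
theorem chk_dcomm_21_15 : dcommOne 21 15 = true := by decide +kernel

set_option maxHeartbeats 4000000 in
theorem chk_dcomm_21_16 : dcommOne 21 16 = true := by decide +kernel

set_option maxHeartbeats 4000000 in
theorem chk_dcomm_21_17 : dcommOne 21 17 = true := by decide +kernel

set_option maxHeartbeats 4000000 in
theorem chk_dcomm_21_18 : dcommOne 21 18 = true := by decide +kernel

set_option maxHeartbeats 4000000 in
theorem chk_dcomm_21_19 : dcommOne 21 19 = true := by decide +kernel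

set_option maxHeartbeats 4000000 in
theorem chk_dcomm_21_20 : dcommOne 21 20 = true := by decide +kernel

theorem chk_dcomm21 : ∀ r < 21, dcommOne 21 r = true := by
  intro r hr
  interval_cases r
  · exact chk_dcomm_21_0
  · exact chk_dcomm_21_1
  · exact chk_dcomm_21_2
  · exact chk_dcomm_21_3
  · exact chk_dcomm_21_4
  · exact chk_dcomm_21_5
  · exact chk_dcomm_21_6
  · exact chk_dcomm_21_7
  · exact chk_dcomm_21_8
  · exact chk_dcomm_21_9
  · exact chk_dcomm_21_10
  · exact chk_dcomm_21_11
  · exact chk_dcomm_21_12
  · exact chk_dcomm_21_13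
  · exact chk_dcomm_21_14
  · exact chk_dcomm_21_15
  · exact chk_dcomm_21_16
  · exact chk_dcomm_21_17
  · exact chk_dcomm_21_18
  · exact chk_dcomm_21_19
  · exact chk_dcomm_21_20

set_option maxHeartbeats 4000000 in
theorem chk_dcomm_22_0 : dcommOne 22 0 = true := by decide +kernel

set_option maxHeartbeats 4000000 in
theorem chk_dcomm_22_1 : dcommOne 22 1 = true := by decide +kernel

set_option maxHeartbeats 4000000 in
theorem chk_dcomm_22_2 : dcommOne 22 2 = true := by decide +kernel

set_option maxHeartbeats 4000000 in
theorem chk_dcomm_22_3 : dcommOne 22 3 = true := by decide +kernel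

set_option maxHeartbeats 4000000 in
theorem chk_dcomm_22_4 : dcommOne 22 4 = true := by decide +kernel

set_option maxHeartbeats 4000000 in
theorem chk_dcomm_22_5 : dcommOne 22 5 = true := by decide +kernel

set_option maxHeartbeats 4000000 in
theorem chk_dcomm_22_6 : dcommOne 22 6 = true := by decide +kernel

set_option maxHeartbeats 4000000 in
theorem chk_dcomm_22_7 : dcommOne 22 7 = true := by decide +kernel

set_option maxHeartbeats 4000000 in
theorem chk_dcomm_22_8 : dcommOne 22 8 = true := by decide +kernel

set_option maxHeartbeats 4000000 in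
theorem chk_dcomm_22_9 : dcommOne 22 9 = true := by decide +kernel

set_option maxHeartbeats 4000000 in
theorem chk_dcomm_22_10 : dcommOne 22 10 = true := by decide +kernel

set_option maxHeartbeats 4000000 in
theorem chk_dcomm_22_11 : dcommOne 22 11 = true := by decide +kernel

set_option maxHeartbeats 4000000 in
theorem chk_dcomm_22_12 : dcommOne 22 12 = true := by decide +kernel

set_option maxHeartbeats 4000000 in
theorem chk_dcomm_22_13 : dcommOne 22 13 = true := by decide +kernel

set_option maxHeartbeats 4000000 in
theorem chk_dcomm_22_14 : dcommOne 22 14 = true := by decide +kernel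

set_option maxHeartbeats 4000000 in
theorem chk_dcomm_22_15 : dcommOne 22 15 = true := by decide +kernel

set_option maxHeartbeats 4000000 in
theorem chk_dcomm_22_16 : dcommOne 22 16 = true := by decide +kernel

set_option maxHeartbeats 4000000 in
theorem chk_dcomm_22_17 : dcommOne 22 17 = true := by decide +kernel

set_option maxHeartbeats 4000000 in
theorem chk_dcomm_22_18 : dcommOne 22 18 = true := by decide +kernel

set_option maxHeartbeats 4000000 in
theorem chk_dcomm_22_19 : dcommOne 22 19 = true := by decide +kernel

set_option maxHeartbeats 4000000 in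
theorem chk_dcomm_22_20 : dcommOne 22 20 = true := by decide +kernel

set_option maxHeartbeats 4000000 in
theorem chk_dcomm_22_21 : dcommOne 22 21 = true := by decide +kernel

theorem chk_dcomm22 : ∀ r < 22, dcommOne 22 r = true := by
  intro r hr
  interval_cases r
  · exact chk_dcomm_22_0
  · exact chk_dcomm_22_1
  · exact chk_dcomm_22_2
  · exact chk_dcomm_22_3
  · exact chk_dcomm_22_4
  · exact chk_dcomm_22_5
  · exact chk_dcomm_22_6
  · exact chk_dcomm_22_7
  · exact chk_dcomm_22_8
  · exact chk_dcomm_22_9
  · exact chk_dcomm_22_10
  · exact chk_dcomm_22_11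
  · exact chk_dcomm_22_12
  · exact chk_dcomm_22_13
  · exact chk_dcomm_22_14
  · exact chk_dcomm_22_15
  · exact chk_dcomm_22_16
  · exact chk_dcomm_22_17
  · exact chk_dcomm_22_18
  · exact chk_dcomm_22_19
  · exact chk_dcomm_22_20
  · exact chk_dcomm_22_21

theorem chk_dcommP3 : ∀ q, 21 ≤ q → q < 23 → ∀ r < q, dcommOne q r = true := by
  intro q h1 h2
  interval_cases q
  · exact chk_dcomm21
  · exact chk_dcomm22

end Cfsg.Agent.Lib.Helper5.M23Ext
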