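import Cfsg.Agent.Lib.Helper5.M23Ext.Defs

/-! # The non-split extension 2^11.M23: the strong generator 1 permutes the involutions (kernel check) -/

set_option autoImplicit false
set_option maxRecDepth 1000000

namespace Cfsg.Agent.Lib.Helper5.M23Ext

set_option maxHeartbeats 4000000 in
theorem chk_gcompat_1_0 : gcompatOne 1 0 = true := by decide +kernel

set_option maxHeartbeats 4000000 in
theorem chk_gcompat_1_1 : gcompatOne 1 1 = true := by decide +kernel

set_option maxHeartbeats 4000000 in
theorem chk_gcompat_1_2 : gcompatOne 1 2 = true := by decide +kernel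

set_option maxHeartbeats 4000000 in
theorem chk_gcompat_1_3 : gcompatOne 1 3 = true := by decide +kernel

set_option maxHeartbeats 4000000 in
theorem chk_gcompat_1_4 : gcompatOne 1 4 = true := by decide +kernel

set_option maxHeartbeats 4000000 in
theorem chk_gcompat_1_5 : gcompatOne 1 5 = true := by decide +kernel

set_option maxHeartbeats 4000000 in
theorem chk_gcompat_1_6 : gcompatOne 1 6 = true := by decide +kernel

set_option maxHeartbeats 4000000 in
theorem chk_gcompat_1_7 : gcompatOne 1 7 = true := by decide +kernel

set_option maxHeartbeats 4000000 in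
theorem chk_gcompat_1_8 : gcompatOne 1 8 = true := by decide +kernel

set_option maxHeartbeats 4000000 in
theorem chk_gcompat_1_9 : gcompatOne 1 9 = true := by decide +kernel

set_option maxHeartbeats 4000000 in
theorem chk_gcompat_1_10 : gcompatOne 1 10 = true := by decide +kernel

set_option maxHeartbeats 4000000 in
theorem chk_gcompat_1_11 : gcompatOne 1 11 = true := by decide +kernel

set_option maxHeartbeats 4000000 in
theorem chk_gcompat_1_12 : gcompatOne 1 12 = true := by decide +kernel

set_option maxHeartbeats 4000000 in
theorem chk_gcompat_1_13 : gcompatOne 1 13 = true := by decide +kernel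

set_option maxHeartbeats 4000000 in
theorem chk_gcompat_1_14 : gcompatOne 1 14 = true := by decide +kernel

set_option maxHeartbeats 4000000 in
theorem chk_gcompat_1_15 : gcompatOne 1 15 = true := by decide +kernel

set_option maxHeartbeats 4000000 in
theorem chk_gcompat_1_16 : gcompatOne 1 16 = true := by decide +kernel

set_option maxHeartbeats 4000000 in
theorem chk_gcompat_1_17 : gcompatOne 1 17 = true := by decide +kernel

set_option maxHeartbeats 4000000 in
theorem chk_gcompat_1_18 : gcompatOne 1 18 = true := by decide +kernel

set_option maxHeartbeats 4000000 in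
theorem chk_gcompat_1_19 : gcompatOne 1 19 = true := by decide +kernel

set_option maxHeartbeats 4000000 in
theorem chk_gcompat_1_20 : gcompatOne 1 20 = true := by decide +kernel

set_option maxHeartbeats 4000000 in
theorem chk_gcompat_1_21 : gcompatOne 1 21 = true := by decide +kernel

set_option maxHeartbeats 4000000 in
theorem chk_gcompat_1_22 : gcompatOne 1 22 = true := by decide +kernel

theorem chk_gcompat1 : ∀ r < 23, gcompatOne 1 r = true := by
  intro r hr
  interval_cases r
  · exact chk_gcompat_1_0
  · exact chk_gcompat_1_1
  · exact chk_gcompat_1_2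
  · exact chk_gcompat_1_3
  · exact chk_gcompat_1_4
  · exact chk_gcompat_1_5
  · exact chk_gcompat_1_6
  · exact chk_gcompat_1_7
  · exact chk_gcompat_1_8
  · exact chk_gcompat_1_9
  · exact chk_gcompat_1_10
  · exact chk_gcompat_1_11
  · exact chk_gcompat_1_12
  · exact chk_gcompat_1_13
  · exact chk_gcompat_1_14
  · exact chk_gcompat_1_15
  · exact chk_gcompat_1_16
  · exact chk_gcompat_1_17
  · exact chk_gcompat_1_18
  · exact chk_gcompat_1_19
  · exact chk_gcompat_1_20
  · exact chk_gcompat_1_21
  · exact chk_gcompat_1_22

end Cfsg.Agent.Lib.Helper5.M23Ext
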