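import Cfsg.Agent.Lib.Helper5.M23Ext.Defs

/-! # The non-split extension 2^11.M23: the strong generator 2 permutes the involutions (kernel check) -/

set_option autoImplicit false
set_option maxRecDepth 1000000

namespace Cfsg.Agent.Lib.Helper5.M23Ext

set_option maxHeartbeats 4000000 in
theorem chk_gcompat_2_0 : gcompatOne 2 0 = true := by decide +kernel

set_option maxHeartbeats 4000000 in
theorem chk_gcompat_2_1 : gcompatOne 2 1 = true := by decide +kernel

set_option maxHeartbeats 4000000 in
theorem chk_gcompat_2_2 : gcompatOne 2 2 = true := by decide +kernel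

set_option maxHeartbeats 4000000 in
theorem chk_gcompat_2_3 : gcompatOne 2 3 = true := by decide +kernel

set_option maxHeartbeats 4000000 in
theorem chk_gcompat_2_4 : gcompatOne 2 4 = true := by decide +kernel

set_option maxHeartbeats 4000000 in
theorem chk_gcompat_2_5 : gcompatOne 2 5 = true := by decide +kernel

set_option maxHeartbeats 4000000 in
theorem chk_gcompat_2_6 : gcompatOne 2 6 = true := by decide +kernel

set_option maxHeartbeats 4000000 in
theorem chk_gcompat_2_7 : gcompatOne 2 7 = true := by decide +kernel

set_option maxHeartbeats 4000000 in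
theorem chk_gcompat_2_8 : gcompatOne 2 8 = true := by decide +kernel

set_option maxHeartbeats 4000000 in
theorem chk_gcompat_2_9 : gcompatOne 2 9 = true := by decide +kernel

set_option maxHeartbeats 4000000 in
theorem chk_gcompat_2_10 : gcompatOne 2 10 = true := by decide +kernel

set_option maxHeartbeats 4000000 in
theorem chk_gcompat_2_11 : gcompatOne 2 11 = true := by decide +kernel

set_option maxHeartbeats 4000000 in
theorem chk_gcompat_2_12 : gcompatOne 2 12 = true := by decide +kernel

set_option maxHeartbeats 4000000 in
theorem chk_gcompat_2_13 : gcompatOne 2 13 = true := by decide +kernel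

set_option maxHeartbeats 4000000 in
theorem chk_gcompat_2_14 : gcompatOne 2 14 = true := by decide +kernel

set_option maxHeartbeats 4000000 in
theorem chk_gcompat_2_15 : gcompatOne 2 15 = true := by decide +kernel

set_option maxHeartbeats 4000000 in
theorem chk_gcompat_2_16 : gcompatOne 2 16 = true := by decide +kernel

set_option maxHeartbeats 4000000 in
theorem chk_gcompat_2_17 : gcompatOne 2 17 = true := by decide +kernel

set_option maxHeartbeats 4000000 in
theorem chk_gcompat_2_18 : gcompatOne 2 18 = true := by decide +kernel

set_option maxHeartbeats 4000000 in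
theorem chk_gcompat_2_19 : gcompatOne 2 19 = true := by decide +kernel

set_option maxHeartbeats 4000000 in
theorem chk_gcompat_2_20 : gcompatOne 2 20 = true := by decide +kernel

set_option maxHeartbeats 4000000 in
theorem chk_gcompat_2_21 : gcompatOne 2 21 = true := by decide +kernel

set_option maxHeartbeats 4000000 in
theorem chk_gcompat_2_22 : gcompatOne 2 22 = true := by decide +kernel

theorem chk_gcompat2 : ∀ r < 23, gcompatOne 2 r = true := by
  intro r hr
  interval_cases r
  · exact chk_gcompat_2_0
  · exact chk_gcompat_2_1
  · exact chk_gcompat_2_2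
  · exact chk_gcompat_2_3
  · exact chk_gcompat_2_4
  · exact chk_gcompat_2_5
  · exact chk_gcompat_2_6
  · exact chk_gcompat_2_7
  · exact chk_gcompat_2_8
  · exact chk_gcompat_2_9
  · exact chk_gcompat_2_10
  · exact chk_gcompat_2_11
  · exact chk_gcompat_2_12
  · exact chk_gcompat_2_13
  · exact chk_gcompat_2_14
  · exact chk_gcompat_2_15
  · exact chk_gcompat_2_16
  · exact chk_gcompat_2_17
  · exact chk_gcompat_2_18
  · exact chk_gcompat_2_19
  · exact chk_gcompat_2_20
  · exact chk_gcompat_2_21
  · exact chk_gcompat_2_22

end Cfsg.Agent.Lib.Helper5.M23Ext
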