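import Cfsg.Agent.Lib.Helper5.M23Ext.Defs

/-! # The non-split extension 2^11.M23: the strong generator 3 permutes the involutions (kernel check) -/

set_option autoImplicit false
set_option maxRecDepth 1000000

namespace Cfsg.Agent.Lib.Helper5.M23Ext

set_option maxHeartbeats 4000000 in
theorem chk_gcompat_3_0 : gcompatOne 3 0 = true := by decide +kernel

set_option maxHeartbeats 4000000 in
theorem chk_gcompat_3_1 : gcompatOne 3 1 = true := by decide +kernel

set_option maxHeartbeats 4000000 in
theorem chk_gcompat_3_2 : gcompatOne 3 2 = true := by decide +kernel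

set_option maxHeartbeats 4000000 in
theorem chk_gcompat_3_3 : gcompatOne 3 3 = true := by decide +kernel

set_option maxHeartbeats 4000000 in
theorem chk_gcompat_3_4 : gcompatOne 3 4 = true := by decide +kernel

set_option maxHeartbeats 4000000 in
theorem chk_gcompat_3_5 : gcompatOne 3 5 = true := by decide +kernel

set_option maxHeartbeats 4000000 in
theorem chk_gcompat_3_6 : gcompatOne 3 6 = true := by decide +kernel

set_option maxHeartbeats 4000000 in
theorem chk_gcompat_3_7 : gcompatOne 3 7 = true := by decide +kernel

set_option maxHeartbeats 4000000 in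
theorem chk_gcompat_3_8 : gcompatOne 3 8 = true := by decide +kernel

set_option maxHeartbeats 4000000 in
theorem chk_gcompat_3_9 : gcompatOne 3 9 = true := by decide +kernel

set_option maxHeartbeats 4000000 in
theorem chk_gcompat_3_10 : gcompatOne 3 10 = true := by decide +kernel

set_option maxHeartbeats 4000000 in
theorem chk_gcompat_3_11 : gcompatOne 3 11 = true := by decide +kernel

set_option maxHeartbeats 4000000 in
theorem chk_gcompat_3_12 : gcompatOne 3 12 = true := by decide +kernel

set_option maxHeartbeats 4000000 in
theorem chk_gcompat_3_13 : gcompatOne 3 13 = true := by decide +kernel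

set_option maxHeartbeats 4000000 in
theorem chk_gcompat_3_14 : gcompatOne 3 14 = true := by decide +kernel

set_option maxHeartbeats 4000000 in
theorem chk_gcompat_3_15 : gcompatOne 3 15 = true := by decide +kernel

set_option maxHeartbeats 4000000 in
theorem chk_gcompat_3_16 : gcompatOne 3 16 = true := by decide +kernel

set_option maxHeartbeats 4000000 in
theorem chk_gcompat_3_17 : gcompatOne 3 17 = true := by decide +kernel

set_option maxHeartbeats 4000000 in
theorem chk_gcompat_3_18 : gcompatOne 3 18 = true := by decide +kernel

set_option maxHeartbeats 4000000 in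
theorem chk_gcompat_3_19 : gcompatOne 3 19 = true := by decide +kernel

set_option maxHeartbeats 4000000 in
theorem chk_gcompat_3_20 : gcompatOne 3 20 = true := by decide +kernel

set_option maxHeartbeats 4000000 in
theorem chk_gcompat_3_21 : gcompatOne 3 21 = true := by decide +kernel

set_option maxHeartbeats 4000000 in
theorem chk_gcompat_3_22 : gcompatOne 3 22 = true := by decide +kernel

theorem chk_gcompat3 : ∀ r < 23, gcompatOne 3 r = true := by
  intro r hr
  interval_cases r
  · exact chk_gcompat_3_0
  · exact chk_gcompat_3_1
  · exact chk_gcompat_3_2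
  · exact chk_gcompat_3_3
  · exact chk_gcompat_3_4
  · exact chk_gcompat_3_5
  · exact chk_gcompat_3_6
  · exact chk_gcompat_3_7
  · exact chk_gcompat_3_8
  · exact chk_gcompat_3_9
  · exact chk_gcompat_3_10
  · exact chk_gcompat_3_11
  · exact chk_gcompat_3_12
  · exact chk_gcompat_3_13
  · exact chk_gcompat_3_14
  · exact chk_gcompat_3_15
  · exact chk_gcompat_3_16
  · exact chk_gcompat_3_17
  · exact chk_gcompat_3_18
  · exact chk_gcompat_3_19
  · exact chk_gcompat_3_20
  · exact chk_gcompat_3_21
  · exact chk_gcompat_3_22

end Cfsg.Agent.Lib.Helper5.M23Ext
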