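import Cfsg.Agent.Lib.Helper5.M23Ext.Defs

/-! # The non-split extension 2^11.M23: the strong generator 4 permutes the involutions (kernel check) -/

set_option autoImplicit false
set_option maxRecDepth 1000000

namespace Cfsg.Agent.Lib.Helper5.M23Ext

set_option maxHeartbeats 4000000 in
theorem chk_gcompat_4_0 : gcompatOne 4 0 = true := by decide +kernel

set_option maxHeartbeats 4000000 in
theorem chk_gcompat_4_1 : gcompatOne 4 1 = true := by decide +kernel

set_option maxHeartbeats 4000000 in
theorem chk_gcompat_4_2 : gcompatOne 4 2 = true := by decide +kernel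

set_option maxHeartbeats 4000000 in
theorem chk_gcompat_4_3 : gcompatOne 4 3 = true := by decide +kernel

set_option maxHeartbeats 4000000 in
theorem chk_gcompat_4_4 : gcompatOne 4 4 = true := by decide +kernel

set_option maxHeartbeats 4000000 in
theorem chk_gcompat_4_5 : gcompatOne 4 5 = true := by decide +kernel

set_option maxHeartbeats 4000000 in
theorem chk_gcompat_4_6 : gcompatOne 4 6 = true := by decide +kernel

set_option maxHeartbeats 4000000 in
theorem chk_gcompat_4_7 : gcompatOne 4 7 = true := by decide +kernel

set_option maxHeartbeats 4000000 in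
theorem chk_gcompat_4_8 : gcompatOne 4 8 = true := by decide +kernel

set_option maxHeartbeats 4000000 in
theorem chk_gcompat_4_9 : gcompatOne 4 9 = true := by decide +kernel

set_option maxHeartbeats 4000000 in
theorem chk_gcompat_4_10 : gcompatOne 4 10 = true := by decide +kernel

set_option maxHeartbeats 4000000 in
theorem chk_gcompat_4_11 : gcompatOne 4 11 = true := by decide +kernel

set_option maxHeartbeats 4000000 in
theorem chk_gcompat_4_12 : gcompatOne 4 12 = true := by decide +kernel

set_option maxHeartbeats 4000000 in
theorem chk_gcompat_4_13 : gcompatOne 4 13 = true := by decide +kernel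

set_option maxHeartbeats 4000000 in
theorem chk_gcompat_4_14 : gcompatOne 4 14 = true := by decide +kernel

set_option maxHeartbeats 4000000 in
theorem chk_gcompat_4_15 : gcompatOne 4 15 = true := by decide +kernel

set_option maxHeartbeats 4000000 in
theorem chk_gcompat_4_16 : gcompatOne 4 16 = true := by decide +kernel

set_option maxHeartbeats 4000000 in
theorem chk_gcompat_4_17 : gcompatOne 4 17 = true := by decide +kernel

set_option maxHeartbeats 4000000 in
theorem chk_gcompat_4_18 : gcompatOne 4 18 = true := by decide +kernel

set_option maxHeartbeats 4000000 in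
theorem chk_gcompat_4_19 : gcompatOne 4 19 = true := by decide +kernel

set_option maxHeartbeats 4000000 in
theorem chk_gcompat_4_20 : gcompatOne 4 20 = true := by decide +kernel

set_option maxHeartbeats 4000000 in
theorem chk_gcompat_4_21 : gcompatOne 4 21 = true := by decide +kernel

set_option maxHeartbeats 4000000 in
theorem chk_gcompat_4_22 : gcompatOne 4 22 = true := by decide +kernel

theorem chk_gcompat4 : ∀ r < 23, gcompatOne 4 r = true := by
  intro r hr
  interval_cases r
  · exact chk_gcompat_4_0
  · exact chk_gcompat_4_1
  · exact chk_gcompat_4_2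
  · exact chk_gcompat_4_3
  · exact chk_gcompat_4_4
  · exact chk_gcompat_4_5
  · exact chk_gcompat_4_6
  · exact chk_gcompat_4_7
  · exact chk_gcompat_4_8
  · exact chk_gcompat_4_9
  · exact chk_gcompat_4_10
  · exact chk_gcompat_4_11
  · exact chk_gcompat_4_12
  · exact chk_gcompat_4_13
  · exact chk_gcompat_4_14
  · exact chk_gcompat_4_15
  · exact chk_gcompat_4_16
  · exact chk_gcompat_4_17
  · exact chk_gcompat_4_18
  · exact chk_gcompat_4_19
  · exact chk_gcompat_4_20
  · exact chk_gcompat_4_21
  · exact chk_gcompat_4_22

end Cfsg.Agent.Lib.Helper5.M23Ext
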