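import Cfsg.Agent.Lib.Helper5.M23Ext.Defs

/-! # The non-split extension 2^11.M23: the strong generator 5 permutes the involutions (kernel check) -/

set_option autoImplicit false
set_option maxRecDepth 1000000

namespace Cfsg.Agent.Lib.Helper5.M23Ext

set_option maxHeartbeats 4000000 in
theorem chk_gcompat_5_0 : gcompatOne 5 0 = true := by decide +kernel

set_option maxHeartbeats 4000000 in
theorem chk_gcompat_5_1 : gcompatOne 5 1 = true := by decide +kernel

set_option maxHeartbeats 4000000 in
theorem chk_gcompat_5_2 : gcompatOne 5 2 = true := by decide +kernel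

set_option maxHeartbeats 4000000 in
theorem chk_gcompat_5_3 : gcompatOne 5 3 = true := by decide +kernel

set_option maxHeartbeats 4000000 in
theorem chk_gcompat_5_4 : gcompatOne 5 4 = true := by decide +kernel

set_option maxHeartbeats 4000000 in
theorem chk_gcompat_5_5 : gcompatOne 5 5 = true := by decide +kernel

set_option maxHeartbeats 4000000 in
theorem chk_gcompat_5_6 : gcompatOne 5 6 = true := by decide +kernel

set_option maxHeartbeats 4000000 in
theorem chk_gcompat_5_7 : gcompatOne 5 7 = true := by decide +kernel

set_option maxHeartbeats 4000000 in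
theorem chk_gcompat_5_8 : gcompatOne 5 8 = true := by decide +kernel

set_option maxHeartbeats 4000000 in
theorem chk_gcompat_5_9 : gcompatOne 5 9 = true := by decide +kernel

set_option maxHeartbeats 4000000 in
theorem chk_gcompat_5_10 : gcompatOne 5 10 = true := by decide +kernel

set_option maxHeartbeats 4000000 in
theorem chk_gcompat_5_11 : gcompatOne 5 11 = true := by decide +kernel

set_option maxHeartbeats 4000000 in
theorem chk_gcompat_5_12 : gcompatOne 5 12 = true := by decide +kernel

set_option maxHeartbeats 4000000 in
theorem chk_gcompat_5_13 : gcompatOne 5 13 = true := by decide +kernel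

set_option maxHeartbeats 4000000 in
theorem chk_gcompat_5_14 : gcompatOne 5 14 = true := by decide +kernel

set_option maxHeartbeats 4000000 in
theorem chk_gcompat_5_15 : gcompatOne 5 15 = true := by decide +kernel

set_option maxHeartbeats 4000000 in
theorem chk_gcompat_5_16 : gcompatOne 5 16 = true := by decide +kernel

set_option maxHeartbeats 4000000 in
theorem chk_gcompat_5_17 : gcompatOne 5 17 = true := by decide +kernel

set_option maxHeartbeats 4000000 in
theorem chk_gcompat_5_18 : gcompatOne 5 18 = true := by decide +kernel

set_option maxHeartbeats 4000000 in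
theorem chk_gcompat_5_19 : gcompatOne 5 19 = true := by decide +kernel

set_option maxHeartbeats 4000000 in
theorem chk_gcompat_5_20 : gcompatOne 5 20 = true := by decide +kernel

set_option maxHeartbeats 4000000 in
theorem chk_gcompat_5_21 : gcompatOne 5 21 = true := by decide +kernel

set_option maxHeartbeats 4000000 in
theorem chk_gcompat_5_22 : gcompatOne 5 22 = true := by decide +kernel

theorem chk_gcompat5 : ∀ r < 23, gcompatOne 5 r = true := by
  intro r hr
  interval_cases r
  · exact chk_gcompat_5_0
  · exact chk_gcompat_5_1
  · exact chk_gcompat_5_2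
  · exact chk_gcompat_5_3
  · exact chk_gcompat_5_4
  · exact chk_gcompat_5_5
  · exact chk_gcompat_5_6
  · exact chk_gcompat_5_7
  · exact chk_gcompat_5_8
  · exact chk_gcompat_5_9
  · exact chk_gcompat_5_10
  · exact chk_gcompat_5_11
  · exact chk_gcompat_5_12
  · exact chk_gcompat_5_13
  · exact chk_gcompat_5_14
  · exact chk_gcompat_5_15
  · exact chk_gcompat_5_16
  · exact chk_gcompat_5_17
  · exact chk_gcompat_5_18
  · exact chk_gcompat_5_19
  · exact chk_gcompat_5_20
  · exact chk_gcompat_5_21
  · exact chk_gcompat_5_22

end Cfsg.Agent.Lib.Helper5.M23Ext
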