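import Cfsg.Agent.Lib.Helper5.M23Ext.Defs

/-! # The non-split extension 2^11.M23: the strong generator 6 permutes the involutions (kernel check) -/

set_option autoImplicit false
set_option maxRecDepth 1000000

namespace Cfsg.Agent.Lib.Helper5.M23Ext

set_option maxHeartbeats 4000000 in
theorem chk_gcompat_6_0 : gcompatOne 6 0 = true := by decide +kernel

set_option maxHeartbeats 4000000 in
theorem chk_gcompat_6_1 : gcompatOne 6 1 = true := by decide +kernel

set_option maxHeartbeats 4000000 in
theorem chk_gcompat_6_2 : gcompatOne 6 2 = true := by decide +kernel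

set_option maxHeartbeats 4000000 in
theorem chk_gcompat_6_3 : gcompatOne 6 3 = true := by decide +kernel

set_option maxHeartbeats 4000000 in
theorem chk_gcompat_6_4 : gcompatOne 6 4 = true := by decide +kernel

set_option maxHeartbeats 4000000 in
theorem chk_gcompat_6_5 : gcompatOne 6 5 = true := by decide +kernel

set_option maxHeartbeats 4000000 in
theorem chk_gcompat_6_6 : gcompatOne 6 6 = true := by decide +kernel

set_option maxHeartbeats 4000000 in
theorem chk_gcompat_6_7 : gcompatOne 6 7 = true := by decide +kernel

set_option maxHeartbeats 4000000 in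
theorem chk_gcompat_6_8 : gcompatOne 6 8 = true := by decide +kernel

set_option maxHeartbeats 4000000 in
theorem chk_gcompat_6_9 : gcompatOne 6 9 = true := by decide +kernel

set_option maxHeartbeats 4000000 in
theorem chk_gcompat_6_10 : gcompatOne 6 10 = true := by decide +kernel

set_option maxHeartbeats 4000000 in
theorem chk_gcompat_6_11 : gcompatOne 6 11 = true := by decide +kernel

set_option maxHeartbeats 4000000 in
theorem chk_gcompat_6_12 : gcompatOne 6 12 = true := by decide +kernel

set_option maxHeartbeats 4000000 in
theorem chk_gcompat_6_13 : gcompatOne 6 13 = true := by decide +kernel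

set_option maxHeartbeats 4000000 in
theorem chk_gcompat_6_14 : gcompatOne 6 14 = true := by decide +kernel

set_option maxHeartbeats 4000000 in
theorem chk_gcompat_6_15 : gcompatOne 6 15 = true := by decide +kernel

set_option maxHeartbeats 4000000 in
theorem chk_gcompat_6_16 : gcompatOne 6 16 = true := by decide +kernel

set_option maxHeartbeats 4000000 in
theorem chk_gcompat_6_17 : gcompatOne 6 17 = true := by decide +kernel

set_option maxHeartbeats 4000000 in
theorem chk_gcompat_6_18 : gcompatOne 6 18 = true := by decide +kernel

set_option maxHeartbeats 4000000 in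
theorem chk_gcompat_6_19 : gcompatOne 6 19 = true := by decide +kernel

set_option maxHeartbeats 4000000 in
theorem chk_gcompat_6_20 : gcompatOne 6 20 = true := by decide +kernel

set_option maxHeartbeats 4000000 in
theorem chk_gcompat_6_21 : gcompatOne 6 21 = true := by decide +kernel

set_option maxHeartbeats 4000000 in
theorem chk_gcompat_6_22 : gcompatOne 6 22 = true := by decide +kernel

theorem chk_gcompat6 : ∀ r < 23, gcompatOne 6 r = true := by
  intro r hr
  interval_cases r
  · exact chk_gcompat_6_0
  · exact chk_gcompat_6_1
  · exact chk_gcompat_6_2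
  · exact chk_gcompat_6_3
  · exact chk_gcompat_6_4
  · exact chk_gcompat_6_5
  · exact chk_gcompat_6_6
  · exact chk_gcompat_6_7
  · exact chk_gcompat_6_8
  · exact chk_gcompat_6_9
  · exact chk_gcompat_6_10
  · exact chk_gcompat_6_11
  · exact chk_gcompat_6_12
  · exact chk_gcompat_6_13
  · exact chk_gcompat_6_14
  · exact chk_gcompat_6_15
  · exact chk_gcompat_6_16
  · exact chk_gcompat_6_17
  · exact chk_gcompat_6_18
  · exact chk_gcompat_6_19
  · exact chk_gcompat_6_20
  · exact chk_gcompat_6_21
  · exact chk_gcompat_6_22

end Cfsg.Agent.Lib.Helper5.M23Ext
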