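import Cfsg.Agent.Lib.Helper5.M23Ext.Defs

/-! # The non-split extension 2^11.M23: the small tests (kernel check) -/

set_option autoImplicit false
set_option maxRecDepth 1000000

namespace Cfsg.Agent.Lib.Helper5.M23Ext

theorem chk_dcode : dcodeOK = true := by decide +kernel

theorem chk_uw : uwOK = true := by decide +kernel

theorem chk_inj : injOK = true := by decide +kernel

theorem chk_fix : fixOK = true := by decide +kernel

theorem chk_first : firstOK = true := by decide +kernel

set_option maxHeartbeats 4000000 in
theorem chk_indep : indepOK = true := by decide +kernel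

set_option maxHeartbeats 4000000 in
theorem chk_dinv_0 : dinvOne 0 = true := by decide +kernel

set_option maxHeartbeats 4000000 in
theorem chk_dinv_1 : dinvOne 1 = true := by decide +kernel

set_option maxHeartbeats 4000000 in
theorem chk_dinv_2 : dinvOne 2 = true := by decide +kernel

set_option maxHeartbeats 4000000 in
theorem chk_dinv_3 : dinvOne 3 = true := by decide +kernel

set_option maxHeartbeats 4000000 in
theorem chk_dinv_4 : dinvOne 4 = true := by decide +kernel

set_option maxHeartbeats 4000000 in
theorem chk_dinv_5 : dinvOne 5 = true := by decide +kernel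

set_option maxHeartbeats 4000000 in
theorem chk_dinv_6 : dinvOne 6 = true := by decide +kernel

set_option maxHeartbeats 4000000 in
theorem chk_dinv_7 : dinvOne 7 = true := by decide +kernel

set_option maxHeartbeats 4000000 in
theorem chk_dinv_8 : dinvOne 8 = true := by decide +kernel

set_option maxHeartbeats 4000000 in
theorem chk_dinv_9 : dinvOne 9 = true := by decide +kernel

set_option maxHeartbeats 4000000 in
theorem chk_dinv_10 : dinvOne 10 = true := by decide +kernel

set_option maxHeartbeats 4000000 in
theorem chk_dinv_11 : dinvOne 11 = true := by decide +kernel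

set_option maxHeartbeats 4000000 in
theorem chk_dinv_12 : dinvOne 12 = true := by decide +kernel

set_option maxHeartbeats 4000000 in
theorem chk_dinv_13 : dinvOne 13 = true := by decide +kernel

set_option maxHeartbeats 4000000 in
theorem chk_dinv_14 : dinvOne 14 = true := by decide +kernel

set_option maxHeartbeats 4000000 in
theorem chk_dinv_15 : dinvOne 15 = true := by decide +kernel

set_option maxHeartbeats 4000000 in
theorem chk_dinv_16 : dinvOne 16 = true := by decide +kernel

set_option maxHeartbeats 4000000 in
theorem chk_dinv_17 : dinvOne 17 = true := by decide +kernel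

set_option maxHeartbeats 4000000 in
theorem chk_dinv_18 : dinvOne 18 = true := by decide +kernel

set_option maxHeartbeats 4000000 in
theorem chk_dinv_19 : dinvOne 19 = true := by decide +kernel

set_option maxHeartbeats 4000000 in
theorem chk_dinv_20 : dinvOne 20 = true := by decide +kernel

set_option maxHeartbeats 4000000 in
theorem chk_dinv_21 : dinvOne 21 = true := by decide +kernel

set_option maxHeartbeats 4000000 in
theorem chk_dinv_22 : dinvOne 22 = true := by decide +kernel

theorem chk_dinv : ∀ r < 23, dinvOne r = true := by
  intro r hr
  interval_cases r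
  · exact chk_dinv_0
  · exact chk_dinv_1
  · exact chk_dinv_2
  · exact chk_dinv_3
  · exact chk_dinv_4
  · exact chk_dinv_5
  · exact chk_dinv_6
  · exact chk_dinv_7
  · exact chk_dinv_8
  · exact chk_dinv_9
  · exact chk_dinv_10
  · exact chk_dinv_11
  · exact chk_dinv_12
  · exact chk_dinv_13
  · exact chk_dinv_14
  · exact chk_dinv_15
  · exact chk_dinv_16
  · exact chk_dinv_17
  · exact chk_dinv_18
  · exact chk_dinv_19
  · exact chk_dinv_20
  · exact chk_dinv_21
  · exact chk_dinv_22

end Cfsg.Agent.Lib.Helper5.M23Ext
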