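import Cfsg.Agent.Lib.Helper5.M23Ext.Defs

/-! # The non-split extension 2^11.M23: the relations of the quaternion group (kernel check) -/

set_option autoImplicit false
set_option maxRecDepth 1000000

namespace Cfsg.Agent.Lib.Helper5.M23Ext

set_option maxHeartbeats 4000000 in
theorem chk_q8a : q8aOK = true := by decide +kernel

set_option maxHeartbeats 4000000 in
theorem chk_q8b : q8bOK = true := by decide +kernel

end Cfsg.Agent.Lib.Helper5.M23Ext
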