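import Cfsg.Agent.Lib.Helper5.M23Ext.Defs

/-! # The non-split extension 2^11.M23: the generators of the code are relations among the involutions (kernel check) -/

set_option autoImplicit false
set_option maxRecDepth 1000000

namespace Cfsg.Agent.Lib.Helper5.M23Ext

set_option maxHeartbeats 4000000 in
theorem chk_rel_0 : relOne 0 = true := by decide +kernel

set_option maxHeartbeats 4000000 in
theorem chk_rel_1 : relOne 1 = true := by decide +kernel

set_option maxHeartbeats 4000000 in
theorem chk_rel_2 : relOne 2 = true := by decide +kernel

set_option maxHeartbeats 4000000 in
theorem chk_rel_3 : relOne 3 = true := by decide +kernel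

set_option maxHeartbeats 4000000 in
theorem chk_rel_4 : relOne 4 = true := by decide +kernel

set_option maxHeartbeats 4000000 in
theorem chk_rel_5 : relOne 5 = true := by decide +kernel

set_option maxHeartbeats 4000000 in
theorem chk_rel_6 : relOne 6 = true := by decide +kernel

set_option maxHeartbeats 4000000 in
theorem chk_rel_7 : relOne 7 = true := by decide +kernel

set_option maxHeartbeats 4000000 in
theorem chk_rel_8 : relOne 8 = true := by decide +kernel

set_option maxHeartbeats 4000000 in
theorem chk_rel_9 : relOne 9 = true := by decide +kernel

set_option maxHeartbeats 4000000 in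
theorem chk_rel_10 : relOne 10 = true := by decide +kernel

set_option maxHeartbeats 4000000 in
theorem chk_rel_11 : relOne 11 = true := by decide +kernel

set_option maxHeartbeats 4000000 in
theorem chk_rel_12 : relOne 12 = true := by decide +kernel

set_option maxHeartbeats 4000000 in
theorem chk_rel_13 : relOne 13 = true := by decide +kernel

set_option maxHeartbeats 4000000 in
theorem chk_rel_14 : relOne 14 = true := by decide +kernel

set_option maxHeartbeats 4000000 in
theorem chk_rel_15 : relOne 15 = true := by decide +kernel

set_option maxHeartbeats 4000000 in
theorem chk_rel_16 : relOne 16 = true := by decide +kernel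

set_option maxHeartbeats 4000000 in
theorem chk_rel_17 : relOne 17 = true := by decide +kernel

set_option maxHeartbeats 4000000 in
theorem chk_rel_18 : relOne 18 = true := by decide +kernel

set_option maxHeartbeats 4000000 in
theorem chk_rel_19 : relOne 19 = true := by decide +kernel

set_option maxHeartbeats 4000000 in
theorem chk_rel_20 : relOne 20 = true := by decide +kernel

set_option maxHeartbeats 4000000 in
theorem chk_rel_21 : relOne 21 = true := by decide +kernel

set_option maxHeartbeats 4000000 in
theorem chk_rel_22 : relOne 22 = true := by decide +kernel

set_option maxHeartbeats 4000000 in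
theorem chk_rel_23 : relOne 23 = true := by decide +kernel

theorem chk_rel : ∀ i < 24, relOne i = true := by
  intro i hi
  interval_cases i
  · exact chk_rel_0
  · exact chk_rel_1
  · exact chk_rel_2
  · exact chk_rel_3
  · exact chk_rel_4
  · exact chk_rel_5
  · exact chk_rel_6
  · exact chk_rel_7
  · exact chk_rel_8
  · exact chk_rel_9
  · exact chk_rel_10
  · exact chk_rel_11
  · exact chk_rel_12
  · exact chk_rel_13
  · exact chk_rel_14
  · exact chk_rel_15
  · exact chk_rel_16
  · exact chk_rel_17
  · exact chk_rel_18
  · exact chk_rel_19
  · exact chk_rel_20
  · exact chk_rel_21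
  · exact chk_rel_22
  · exact chk_rel_23

end Cfsg.Agent.Lib.Helper5.M23Ext
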