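import Cfsg.Agent.Lib.Helper5.M23Ext.Theta

/-!
# The non-split extension 2^11.M23: the kernel of the homomorphism onto `V`
-/

set_option autoImplicit false
set_option maxRecDepth 1000000

namespace Cfsg.Agent.Lib.Helper5.M23Ext

open Cfsg Cfsg.Agent.Lib.Helper6.Golay Cfsg.Agent.Lib.Helper6.Golay.M12Out Cfsg.Agent.H9.NatPerm
open Cfsg.Agent.H9.FusGrp

/-- the test results that the kernel of the homomorphism needs -/
structure Facts2 : Prop where
  rel : ∀ i < 24, relOne i = true
  indep : indepOK = true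

theorem TT_gen (F : Facts) (F2 : Facts2) {i : ℕ} (hi : i < 24) :
    TT F (dec (genMasks.getD i 0)) = 1 := by
  rw [TT_dec]
  have h := F2.rel i hi
  have := wprod_eq (wlt_maskWord _) rfl h
  rw [this, wprod_nil]

/-- the words mapped to the identity, as a subspace -/
noncomputable def kerSub (F : Facts) : Submodule (ZMod 2) (GolayPt → ZMod 2) where
  carrier := {w | TT F w = 1}
  zero_mem' := TT_zero F
  add_mem' := by
    intro a b ha hb
    show TT F (a + b) = 1
    rw [TT_add, ha, hb, mul_one]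
  smul_mem' := by
    intro c w hw
    have hc : c = 0 ∨ c = 1 := by revert c; decide
    rcases hc with rfl | rfl
    · show TT F ((0 : ZMod 2) • w) = 1
      rw [zero_smul]
      exact TT_zero F
    · show TT F ((1 : ZMod 2) • w) = 1
      rw [one_smul]
      exact hw

theorem qr_gen : ∀ i < 23, qrMasks.getD i 0 = genMasks.getD i 0 := by decide

theorem TT_code (F : Facts) (F2 : Facts2) {w : GolayPt → ZMod 2} (hw : w ∈ golayCode) :
    TT F w = 1 := by
  have : golayCode ≤ kerSub F := by
    apply Submodule.span_le.mpr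
    rintro w (⟨t, rfl⟩ | hw)
    · show TT F (qrWord t) = 1
      rw [qrWord_eq, qr_gen _ (ZMod.val_lt t)]
      exact TT_gen F F2 (lt_trans (ZMod.val_lt t) (by decide))
    · rw [Set.mem_singleton_iff] at hw
      show TT F w = 1
      rw [hw, ← dec_ones]
      exact TT_gen F F2 (i := 23) (by decide)
  exact this hw

theorem dec_none : dec (2 ^ 23) = Pi.single none 1 := by
  funext p
  revert p
  decide

theorem TT_none (F : Facts) : TT F (Pi.single none 1) = 1 := by
  rw [TT_single]
  exact Dp_none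

theorem TT_code' (F : Facts) (F2 : Facts2) {w : GolayPt → ZMod 2}
    (hw : w ∈ golayCode ∨ w + Pi.single none 1 ∈ golayCode) : TT F w = 1 := by
  rcases hw with hw | hw
  · exact TT_code F F2 hw
  · have := TT_code F F2 hw
    rwa [TT_add, TT_none, mul_one] at this

theorem maskWord_mod (r : ℕ) : maskWord (r % 2 ^ 23) = maskWord r := by
  unfold maskWord
  congr 1
  apply List.filter_congr
  intro i hi
  rw [Nat.testBit_mod_two_pow]
  simp [List.mem_range.1 hi]

theorem TT_indep (F : Facts) (F2 : Facts2) {t : ℕ} (ht : t < 2048)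
    (h : TT F (dec (Nat.shiftLeft t 12)) = 1) : t = 0 := by
  rw [TT_dec] at h
  have hc := allB_spec F2.indep t ht
  rw [Bool.or_eq_true, Nat.beq_eq] at hc
  rcases hc with hc | hc
  · exact hc
  · exfalso
    rw [Bool.and_eq_true, Nat.blt_eq] at hc
    obtain ⟨hp, hne⟩ := hc
    have hr := (rep_wprod (maskWord (Nat.shiftLeft t 12)) (wlt_spec (wlt_maskWord _))).2
    rw [h] at hr
    have := hr (tget Data.wit t) hp
    have h1 : ((1 : GG).2 ⟨tget Data.wit t, hp⟩).val = tget Data.wit t := rfl
    rw [h1] at this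
    rw [← this] at hne
    simp at hne

theorem dec_maskOf_support (w : GolayPt → ZMod 2) : dec (maskOf (support₂ w)) = w := by
  funext p
  rw [dec_apply]
  have h := testBit_maskOf (support₂ w) (idx p)
  by_cases hp : w p = 0
  · have : ¬ (maskOf (support₂ w)).testBit (idx p) = true := by
      rw [h]
      rintro ⟨q, hq, hqp⟩
      rw [idx_injective hqp] at hq
      simp [support₂, hp] at hq
    rw [if_neg this, hp]
  · have : (maskOf (support₂ w)).testBit (idx p) = true := by
      rw [h]
      exact ⟨p, by simp [support₂, hp], rfl⟩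
    rw [if_pos this]
    have : ∀ x : ZMod 2, x ≠ 0 → 1 = x := by decide
    exact this _ hp

/-- the kernel of the homomorphism -/
theorem code_of_TT (F : Facts) (F2 : Facts2) {w : GolayPt → ZMod 2} (h : TT F w = 1) :
    w ∈ golayCode ∨ w + Pi.single none 1 ∈ golayCode := by
  obtain ⟨n, hn, rfl⟩ : ∃ n < 2 ^ 24, w = dec n :=
    ⟨maskOf (support₂ w), maskOf_lt _, (dec_maskOf_support w).symm⟩
  have hm : n % 4096 < 4096 := Nat.mod_lt _ (by norm_num)
  set c := combo (n % 4096) with hcdef
  have hc : dec c ∈ golayCode := dec_combo_mem _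
  have hcm : c % 4096 = n % 4096 := combo_mod _ hm
  have hclt : c < 2 ^ 24 := combo_lt _ hm
  have hrlt : n ^^^ c < 2 ^ 24 := Nat.xor_lt_two_pow hn hclt
  have hr0 : (n ^^^ c) % 2 ^ 12 = 0 := by
    rw [Nat.xor_mod_two_pow]
    show (n % 4096) ^^^ (c % 4096) = 0
    rw [hcm, Nat.xor_self]
  have hTr : TT F (dec (n ^^^ c)) = 1 := by
    rw [dec_xor, TT_add, h, TT_code F F2 hc, mul_one]
  -- `n ^^^ c = 4096 * t'`
  obtain ⟨t', ht'⟩ : ∃ t', n ^^^ c = 4096 * t' := ⟨(n ^^^ c) / 4096, by omega⟩
  have ht'lt : t' < 4096 := by omega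
  have hmod : (n ^^^ c) % 2 ^ 23 = Nat.shiftLeft (t' % 2048) 12 := by
    show _ = (t' % 2048) <<< 12
    rw [Nat.shiftLeft_eq, ht']
    omega
  have ht0 : t' % 2048 = 0 := by
    apply TT_indep F F2 (Nat.mod_lt _ (by norm_num))
    rw [TT_dec, ← hmod, maskWord_mod, ← TT_dec F]
    exact hTr
  have hcases : n ^^^ c = 0 ∨ n ^^^ c = 2 ^ 23 := by omega
  rcases hcases with h0 | h1
  · left
    rw [Nat.xor_eq_zero_iff] at h0
    rw [h0]
    exact hc
  · right
    have : dec c = dec n + Pi.single none 1 := by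
      rw [← dec_none, ← h1, ← dec_xor, Nat.xor_xor_cancel_left]
    rw [← this]
    exact hc

theorem TT_eq_one_iff_code (F : Facts) (F2 : Facts2) (w : GolayPt → ZMod 2) :
    TT F w = 1 ↔ w ∈ golayCode ∨ w + Pi.single none 1 ∈ golayCode :=
  ⟨code_of_TT F F2, TT_code' F F2⟩

end Cfsg.Agent.Lib.Helper5.M23Ext
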