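import Cfsg.Agent.Lib.Helper5.M23Ext.Grp

/-!
# The non-split extension 2^11.M23: the tests run by the kernel (definitions)
-/

set_option autoImplicit false
set_option maxRecDepth 1000000

namespace Cfsg.Agent.Lib.Helper5.M23Ext

open Cfsg Cfsg.Agent.Lib.Helper6.Golay Cfsg.Agent.Lib.Helper6.Golay.M12Out Cfsg.Agent.H9.NatPerm
open Cfsg.Agent.H9.FusGrp

/-- the transversal word `k` of level `i` -/
def uw (i k : ℕ) : List ℕ := (Data.uwL i).getD k []

/-- a field of a certificate -/
def fld (rec l : ℕ) : ℕ := Nat.land (Nat.shiftRight rec (Nat.mul 8 l)) 255

/-- the word of the transversal elements named by a certificate, levels `i, ..., i + n - 1` -/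
def rhsW (rec : ℕ) : ℕ → ℕ → List ℕ
  | _, 0 => []
  | i, n + 1 => uw i (fld rec i) ++ rhsW rec (i + 1) n

/-- the word of the involutions `D r`, `r` a bit of `w` -/
def maskWord (w : ℕ) : List ℕ :=
  ((List.range 23).filter (fun r => w.testBit r)).map (fun r => 8 + r)

/-- the fields of a certificate name transversal elements -/
def fldsOK (rec : ℕ) : ℕ → ℕ → Bool
  | _, 0 => true
  | i, n + 1 => Nat.blt (fld rec i) (Data.nu i) && fldsOK rec (i + 1) n

/-- certificate `k` of level `i` for the strong generator `first i + jj` is correct -/
noncomputable def certOne (i jj k : ℕ) : Bool :=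
  force ((Data.certL i).getD (jj * Data.nu i + k) 0) fun rec =>
    fldsOK rec i (6 - i) &&
      wordEq ((Data.first i + jj) :: uw i k)
        (rhsW rec i (6 - i) ++ maskWord (Nat.shiftRight rec 48))

/-- the letters of the transversal words are strong generators of their level -/
def uwOK : Bool :=
  allB (fun i => allB (fun k =>
    (uw i k).all (fun j => Nat.blt j 8 && Nat.ble i (Data.glev j))) (Data.nu i)) 6

/-- only the first transversal element of a level fixes the base point -/
def injOK : Bool :=
  allB (fun i => allB (fun k =>
    Nat.beq k 0 || !Nat.beq (aget (wcode (uw i k)) (Data.bpt i)) (Data.bpt i)) (Data.nu i)) 6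

/-- the strong generators fix the base points below their level -/
def fixOK : Bool :=
  allB (fun j => allB (fun i =>
    Nat.beq (aget (Data.gc j) (Data.bpt i)) (Data.bpt i)) (Data.glev j)) 8

/-- the strong generators of level at least `i` are those from `first i` on -/
def firstOK : Bool :=
  allB (fun i => allB (fun j => Nat.ble i (Data.glev j) == Nat.ble (Data.first i) j) 8) 6

/-- the involution `D r` has order at most two -/
noncomputable def dinvOne (r : ℕ) : Bool := wordEq [8 + r, 8 + r] []

/-- the involutions `D q` and `D r` commute -/
noncomputable def dcommOne (q r : ℕ) : Bool := wordEq [8 + q, 8 + r] [8 + r, 8 + q]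

/-- the strong generator `j` maps the involution `D r` as it maps the point `r` -/
noncomputable def gcompatOne (j r : ℕ) : Bool :=
  Nat.blt (aget (Data.gc j) r) 23 && wordEq [j, 8 + r] [8 + aget (Data.gc j) r, j]

/-- generator `i` of the code is a relation among the involutions -/
noncomputable def relOne (i : ℕ) : Bool := wordEq (maskWord (genMasks.getD i 0)) []

/-- the products over the nonempty sets of the last eleven involutions move a point -/
def indepOK : Bool :=
  allB (fun t => Nat.beq t 0 ||
    (Nat.blt (tget Data.wit t) 506 &&
      !Nat.beq (weval (maskWord (Nat.shiftLeft t 12)) (tget Data.wit t)) (tget Data.wit t))) 2048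

/-- the quaternion certificate: `X ^ 2 = v0 * Y ^ 2` -/
def qw0 : ℕ := 1343

/-- the quaternion certificate: `X * Y * X = v1 * Y` -/
def qw1 : ℕ := 1861

/-- the quaternion certificate: the first functional -/
def qc1 : ℕ := 2094765

/-- the quaternion certificate: the second functional -/
def qc2 : ℕ := 10558

/-- the first relation of the two elements generating a quaternion group modulo `V` -/
noncomputable def q8aOK : Bool :=
  wordEq (Data.wx ++ Data.wx) (maskWord qw0 ++ (Data.wy ++ Data.wy))

/-- the second relation -/
noncomputable def q8bOK : Bool :=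
  wordEq (Data.wx ++ (Data.wy ++ Data.wx)) (maskWord qw1 ++ Data.wy)

/-- the codes of the involutions are the code of the identity -/
def dcodeOK : Bool := allB (fun r => Nat.beq (Data.gc (8 + r)) idc) 23

end Cfsg.Agent.Lib.Helper5.M23Ext
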