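import Cfsg.Agent.Lib.Helper5.M23Ext.Struct
import Cfsg.Agent.Lib.Helper5.M23Ext.ChkC00
import Cfsg.Agent.Lib.Helper5.M23Ext.ChkC01
import Cfsg.Agent.Lib.Helper5.M23Ext.ChkC02
import Cfsg.Agent.Lib.Helper5.M23Ext.ChkC03
import Cfsg.Agent.Lib.Helper5.M23Ext.ChkC04
import Cfsg.Agent.Lib.Helper5.M23Ext.ChkC05
import Cfsg.Agent.Lib.Helper5.M23Ext.ChkC06
import Cfsg.Agent.Lib.Helper5.M23Ext.ChkC07
import Cfsg.Agent.Lib.Helper5.M23Ext.ChkC10
import Cfsg.Agent.Lib.Helper5.M23Ext.ChkC11
import Cfsg.Agent.Lib.Helper5.M23Ext.ChkC12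
import Cfsg.Agent.Lib.Helper5.M23Ext.ChkC13
import Cfsg.Agent.Lib.Helper5.M23Ext.ChkC14
import Cfsg.Agent.Lib.Helper5.M23Ext.ChkC15
import Cfsg.Agent.Lib.Helper5.M23Ext.ChkC20
import Cfsg.Agent.Lib.Helper5.M23Ext.ChkC21
import Cfsg.Agent.Lib.Helper5.M23Ext.ChkC22
import Cfsg.Agent.Lib.Helper5.M23Ext.ChkC23
import Cfsg.Agent.Lib.Helper5.M23Ext.ChkC24
import Cfsg.Agent.Lib.Helper5.M23Ext.ChkC30
import Cfsg.Agent.Lib.Helper5.M23Ext.ChkC31
import Cfsg.Agent.Lib.Helper5.M23Ext.ChkC32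
import Cfsg.Agent.Lib.Helper5.M23Ext.ChkC33
import Cfsg.Agent.Lib.Helper5.M23Ext.ChkC40
import Cfsg.Agent.Lib.Helper5.M23Ext.ChkC41
import Cfsg.Agent.Lib.Helper5.M23Ext.ChkC42
import Cfsg.Agent.Lib.Helper5.M23Ext.ChkC50
import Cfsg.Agent.Lib.Helper5.M23Ext.ChkG0
import Cfsg.Agent.Lib.Helper5.M23Ext.ChkG1
import Cfsg.Agent.Lib.Helper5.M23Ext.ChkG2
import Cfsg.Agent.Lib.Helper5.M23Ext.ChkG3
import Cfsg.Agent.Lib.Helper5.M23Ext.ChkG4
import Cfsg.Agent.Lib.Helper5.M23Ext.ChkG5
import Cfsg.Agent.Lib.Helper5.M23Ext.ChkG6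
import Cfsg.Agent.Lib.Helper5.M23Ext.ChkG7
import Cfsg.Agent.Lib.Helper5.M23Ext.ChkD0
import Cfsg.Agent.Lib.Helper5.M23Ext.ChkD1
import Cfsg.Agent.Lib.Helper5.M23Ext.ChkD2
import Cfsg.Agent.Lib.Helper5.M23Ext.ChkD3
import Cfsg.Agent.Lib.Helper5.M23Ext.ChkL

/-! # The non-split extension 2^11.M23: all the tests of the structure together -/

set_option autoImplicit false

namespace Cfsg.Agent.Lib.Helper5.M23Ext

theorem chk_dcomm : ∀ q < 23, ∀ r < q, dcommOne q r = true := by
  intro q hq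
  rcases Nat.lt_or_ge q 1 with h0 | h0
  · intro r hr
    omega
  rcases Nat.lt_or_ge q 12 with h1 | h1
  · exact chk_dcommP0 q h0 h1
  rcases Nat.lt_or_ge q 17 with h2 | h2
  · exact chk_dcommP1 q h1 h2
  rcases Nat.lt_or_ge q 21 with h3 | h3
  · exact chk_dcommP2 q h2 h3
  exact chk_dcommP3 q h3 hq

theorem chk_gcompat : ∀ j < 8, ∀ r < 23, gcompatOne j r = true := by
  intro j hj
  interval_cases j
  · exact chk_gcompat0
  · exact chk_gcompat1
  · exact chk_gcompat2
  · exact chk_gcompat3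
  · exact chk_gcompat4
  · exact chk_gcompat5
  · exact chk_gcompat6
  · exact chk_gcompat7

theorem chk_cert : ∀ i < 6, ∀ jj < 8 - Data.first i, ∀ k < Data.nu i, certOne i jj k = true := by
  intro i hi
  interval_cases i
  · intro jj hjj
    change jj < 8 at hjj
    interval_cases jj
    · exact chk_cert00
    · exact chk_cert01
    · exact chk_cert02
    · exact chk_cert03
    · exact chk_cert04
    · exact chk_cert05
    · exact chk_cert06
    · exact chk_cert07
  · intro jj hjj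
    change jj < 6 at hjj
    interval_cases jj
    · exact chk_cert10
    · exact chk_cert11
    · exact chk_cert12
    · exact chk_cert13
    · exact chk_cert14
    · exact chk_cert15
  · intro jj hjj
    change jj < 5 at hjj
    interval_cases jj
    · exact chk_cert20
    · exact chk_cert21
    · exact chk_cert22
    · exact chk_cert23
    · exact chk_cert24
  · intro jj hjj
    change jj < 4 at hjj
    interval_cases jj
    · exact chk_cert30
    · exact chk_cert31
    · exact chk_cert32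
    · exact chk_cert33
  · intro jj hjj
    change jj < 3 at hjj
    interval_cases jj
    · exact chk_cert40
    · exact chk_cert41
    · exact chk_cert42
  · intro jj hjj
    change jj < 1 at hjj
    interval_cases jj
    · exact chk_cert50

/-- all the tests of the structure -/
theorem facts : Facts where
  dinv := chk_dinv
  dcomm := chk_dcomm
  gcompat := chk_gcompat
  dcode := chk_dcode
  uw := chk_uw
  inj := chk_inj
  fix := chk_fix
  first := chk_first
  cert := chk_cert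

end Cfsg.Agent.Lib.Helper5.M23Ext
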