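import Cfsg.Agent.Lib.Helper5.M23Ext.Split
import Cfsg.Agent.Lib.Helper5.M23Ext.ChkL
import Cfsg.Agent.Lib.Helper5.M23Ext.ChkR
import Cfsg.Agent.Lib.Helper5.M23Ext.ChkQ

/-! # The non-split extension 2^11.M23: the tests of the kernel and of the quaternion group -/

set_option autoImplicit false
set_option maxRecDepth 1000000

namespace Cfsg.Agent.Lib.Helper5.M23Ext

open Cfsg Cfsg.Agent.Lib.Helper6.Golay Cfsg.Agent.Lib.Helper6.Golay.M12Out Cfsg.Agent.H9.NatPerm
open Cfsg.Agent.H9.FusGrp

/-- the tests of the kernel of the homomorphism -/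
theorem facts2 : Facts2 where
  rel := chk_rel
  indep := chk_indep

theorem chk_coefA : ∀ q : GolayPt, dec qc1 q + dec qc1 (pt (aget (wcode Data.wx) (idx q))) +
    dec qc2 q +
    dec qc2 (pt (aget (wcode Data.wx) (idx (pt (aget (wcode Data.wy) (idx q)))))) = 0 := by
  decide +kernel

theorem chk_coefB : ∀ q : GolayPt, dec qc1 q + dec qc1 (pt (aget (wcode Data.wy) (idx q))) +
    dec qc2 (pt (aget (wcode Data.wx) (idx q))) + dec qc2 q = 0 := by
  decide +kernel

theorem chk_orth1 : ∀ i < 24, pc 24 (qc1 &&& genMasks.getD i 0) % 2 = 0 := by decide +kernel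

theorem chk_orth2 : ∀ i < 24, pc 24 (qc2 &&& genMasks.getD i 0) % 2 = 0 := by decide +kernel

theorem chk_none1 : pc 24 (qc1 &&& 2 ^ 23) % 2 = 0 := by decide +kernel

theorem chk_none2 : pc 24 (qc2 &&& 2 ^ 23) % 2 = 0 := by decide +kernel

theorem chk_const : (pc 24 (qc1 &&& qw0) + pc 24 (qc2 &&& qw1)) % 2 = 1 := by decide +kernel

/-- the tests of the quaternion group -/
theorem facts3 : Facts3 where
  q8a := chk_q8a
  q8b := chk_q8b
  coefA := chk_coefA
  coefB := chk_coefB
  orth1 := chk_orth1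
  orth2 := chk_orth2
  none1 := chk_none1
  none2 := chk_none2
  const := chk_const

end Cfsg.Agent.Lib.Helper5.M23Ext
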