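import Mathlib

/-!
# Permutations of 506 points given by tables of 13-bit entries, for the kernel
-/

set_option autoImplicit false

namespace Cfsg.Agent.Lib.Helper5.M23Ext

/-- entry `p` of a table of 13-bit entries -/
def tget (T p : ℕ) : ℕ := Nat.land (Nat.shiftRight T (Nat.mul 13 p)) 8191

/-- a test for all numbers below a bound -/
def allB (f : ℕ → Bool) : ℕ → Bool
  | 0 => true
  | n + 1 => f n && allB f n

theorem allB_spec {f : ℕ → Bool} : ∀ {n : ℕ}, allB f n = true → ∀ m < n, f m = true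
  | 0, _, m, hm => absurd hm (Nat.not_lt_zero m)
  | n + 1, h, m, hm => by
    rw [allB, Bool.and_eq_true] at h
    rcases Nat.lt_succ_iff_lt_or_eq.1 hm with h' | rfl
    · exact allB_spec h.2 m h'
    · exact h.1

/-- `T'` inverts `T` on the points, and the entries of `T` are points -/
def tvalid (T T' : ℕ) : Bool :=
  allB (fun p => Nat.blt (tget T p) 506 && Nat.beq (tget T' (tget T p)) p) 506

theorem tvalid_spec {T T' : ℕ} (h : tvalid T T' = true) {p : ℕ} (hp : p < 506) :
    tget T p < 506 ∧ tget T' (tget T p) = p := by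
  have := allB_spec h p hp
  simp only [Bool.and_eq_true, Nat.blt_eq, Nat.beq_eq] at this
  exact this

/-- the map of a table on `Fin 506` -/
def tfun (T : ℕ) (p : Fin 506) : Fin 506 :=
  if h : tget T p.val < 506 then ⟨tget T p.val, h⟩ else p

theorem tfun_val {T T' : ℕ} (h : tvalid T T' = true) (p : Fin 506) :
    (tfun T p).val = tget T p.val := by
  unfold tfun
  rw [dif_pos (tvalid_spec h p.isLt).1]

theorem tfun_tfun {T T' : ℕ} (h : tvalid T T' = true) (h' : tvalid T' T = true) (p : Fin 506) :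
    tfun T' (tfun T p) = p := by
  apply Fin.ext
  rw [tfun_val h', tfun_val h]
  exact (tvalid_spec h p.isLt).2

/-- the permutation of a pair of mutually inverse tables (the identity for other pairs) -/
def tperm (T T' : ℕ) : Equiv.Perm (Fin 506) :=
  if h : tvalid T T' = true ∧ tvalid T' T = true then
    ⟨tfun T, tfun T', tfun_tfun h.1 h.2, tfun_tfun h.2 h.1⟩
  else 1

/-- a permutation of the 506 points is described by a function on numbers -/
def RepF (x : Equiv.Perm (Fin 506)) (f : ℕ → ℕ) : Prop :=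
  ∀ (p : ℕ) (hp : p < 506), (x ⟨p, hp⟩).val = f p

theorem repF_tperm {T T' : ℕ} (h : tvalid T T' = true) (h' : tvalid T' T = true) :
    RepF (tperm T T') (tget T) := by
  intro p hp
  unfold tperm
  rw [dif_pos ⟨h, h'⟩]
  exact tfun_val h ⟨p, hp⟩

theorem RepF.one : RepF 1 (fun p => p) := fun _ _ => rfl

theorem RepF.lt {x : Equiv.Perm (Fin 506)} {f : ℕ → ℕ} (h : RepF x f) {p : ℕ} (hp : p < 506) :
    f p < 506 := by
  rw [← h p hp]
  exact (x ⟨p, hp⟩).isLt

theorem RepF.mul {x y : Equiv.Perm (Fin 506)} {f g : ℕ → ℕ} (hx : RepF x f) (hy : RepF y g) :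
    RepF (x * y) (fun p => f (g p)) := by
  intro p hp
  rw [Equiv.Perm.mul_apply]
  have h1 := hy p hp
  have h2 := hx (g p) (hy.lt hp)
  show (x (y ⟨p, hp⟩)).val = f (g p)
  rw [← h2]
  congr 2
  exact Fin.ext h1

theorem RepF.eq {x y : Equiv.Perm (Fin 506)} {f g : ℕ → ℕ} (hx : RepF x f) (hy : RepF y g)
    (h : ∀ p < 506, f p = g p) : x = y := by
  ext ⟨p, hp⟩
  rw [hx p hp, hy p hp, h p hp]

theorem RepF.congr {x : Equiv.Perm (Fin 506)} {f g : ℕ → ℕ} (hx : RepF x f)
    (h : ∀ p < 506, f p = g p) : RepF x g := fun p hp => (hx p hp).trans (h p hp)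

end Cfsg.Agent.Lib.Helper5.M23Ext
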