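import Cfsg.Agent.H9.M23GenA
import Cfsg.Agent.Lib.Helper5.M23Ext.Tab
import Cfsg.Agent.Lib.Helper5.M23Ext.Data

/-!
# The non-split extension 2^11.M23: the tests of the generators (codes in M23, tables valid)
-/

set_option autoImplicit false
set_option maxRecDepth 1000000

namespace Cfsg.Agent.Lib.Helper5.M23Ext

open Cfsg Cfsg.Agent.Lib.Helper6.Golay Cfsg.Agent.Lib.Helper6.Golay.M12Out Cfsg.Agent.H9.NatPerm
open Cfsg.Agent.H9.FusGrp

/-- the codes of the 31 generators -/
def gcs : List ℕ := (List.range 31).map Data.gc

theorem gls_chk : (gcs.map dec24).all chkL = true := by decide +kernel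

theorem gcs_23 : gcs.all chk23 = true := by decide +kernel

theorem tabs_ok : allB (fun j => force (Data.gt j) fun T => force (Data.gti j) fun T' =>
    tvalid T T' && tvalid T' T) 31 = true := by decide +kernel

end Cfsg.Agent.Lib.Helper5.M23Ext
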