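import Cfsg.Agent.Lib.Helper5.M23Ext.Gens
import Cfsg.Agent.Lib.Helper5.M23Ext.Chain

/-!
# The non-split extension 2^11.M23: the ambient group, the generators, words
-/

set_option autoImplicit false
set_option maxRecDepth 1000000

namespace Cfsg.Agent.Lib.Helper5.M23Ext

open Cfsg Cfsg.Agent.Lib.Helper6.Golay Cfsg.Agent.Lib.Helper6.Golay.M12Out Cfsg.Agent.H9.NatPerm
open Cfsg.Agent.H9.FusGrp

/-- the ambient group: permutations of the 24 points and of 506 further points -/
abbrev GG : Type := Equiv.Perm GolayPt × Equiv.Perm (Fin 506)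

theorem gc_mem : ∀ c ∈ gcs, ∃ g ∈ Spor.M23, IsC g c :=
  exists_mem_of_lists (fun hg hc hf => mem_M23_of_isC hg hc hf) gls_chk rfl gcs_23

theorem gc_ex (j : ℕ) (hj : j < 31) : ∃ g ∈ Spor.M23, IsC g (Data.gc j) :=
  gc_mem _ (List.mem_map.2 ⟨j, List.mem_range.2 hj, rfl⟩)

open Classical in
/-- the first components of the generators -/
noncomputable def g24 (j : ℕ) : Equiv.Perm GolayPt :=
  if h : ∃ g ∈ Spor.M23, IsC g (Data.gc j) then Classical.choose h else 1

theorem g24_spec {j : ℕ} (hj : j < 31) : g24 j ∈ Spor.M23 ∧ IsC (g24 j) (Data.gc j) := by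
  unfold g24
  rw [dif_pos (gc_ex j hj)]
  exact Classical.choose_spec (gc_ex j hj)

/-- the generators: eight strong generators and the 23 commuting involutions -/
noncomputable def gen (j : ℕ) : GG := (g24 j, tperm (Data.gt j) (Data.gti j))

/-- an element of the ambient group is described by a code and a function -/
def Rep (a : GG) (c : ℕ) (f : ℕ → ℕ) : Prop := IsC a.1 c ∧ RepF a.2 f

theorem rep_gen {j : ℕ} (hj : j < 31) : Rep (gen j) (Data.gc j) (tget (Data.gt j)) := by
  have h := allB_spec tabs_ok j hj
  rw [force_eq, force_eq, Bool.and_eq_true] at h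
  exact ⟨(g24_spec hj).2, repF_tperm h.1 h.2⟩

theorem Rep.one : Rep 1 idc (fun p => p) := ⟨isC_one, RepF.one⟩

theorem Rep.mul {a b : GG} {ca cb : ℕ} {f g : ℕ → ℕ} (ha : Rep a ca f) (hb : Rep b cb g) :
    Rep (a * b) (pmul ca cb) (fun p => f (g p)) :=
  ⟨ha.1.mul hb.1, ha.2.mul hb.2⟩

theorem Rep.eq {a b : GG} {ca cb : ℕ} {f g : ℕ → ℕ} (ha : Rep a ca f) (hb : Rep b cb g)
    (hc : ca = cb) (h : ∀ p < 506, f p = g p) : a = b := by
  subst hc
  exact Prod.ext (ha.1.ext hb.1) (ha.2.eq hb.2 h)

/-- the product of a word in the generators -/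
noncomputable def wprod (w : List ℕ) : GG := (w.map gen).prod

/-- the code of a word -/
def wcode (w : List ℕ) : ℕ := w.foldr (fun j c => pmul (Data.gc j) c) idc

/-- the action of a word on the 506 points -/
def weval (w : List ℕ) (p : ℕ) : ℕ := w.foldr (fun j q => tget (Data.gt j) q) p

theorem wprod_nil : wprod [] = 1 := by
  unfold wprod
  rw [List.map_nil, List.prod_nil]

theorem wprod_cons (j : ℕ) (w : List ℕ) : wprod (j :: w) = gen j * wprod w := by
  unfold wprod
  rw [List.map_cons, List.prod_cons]

theorem wprod_append (a b : List ℕ) : wprod (a ++ b) = wprod a * wprod b := by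
  unfold wprod
  rw [List.map_append, List.prod_append]

theorem wcode_cons (j : ℕ) (w : List ℕ) : wcode (j :: w) = pmul (Data.gc j) (wcode w) := by
  unfold wcode
  rw [List.foldr_cons]

theorem weval_cons (j : ℕ) (w : List ℕ) :
    weval (j :: w) = fun p => tget (Data.gt j) (weval w p) := by
  funext p
  unfold weval
  rw [List.foldr_cons]

theorem rep_wprod : ∀ (w : List ℕ), (∀ j ∈ w, j < 31) → Rep (wprod w) (wcode w) (weval w)
  | [], _ => Rep.one
  | j :: w, h => by
    rw [wprod_cons, wcode_cons, weval_cons]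
    exact Rep.mul (rep_gen (h j (List.mem_cons_self)))
      (rep_wprod w (fun i hi => h i (List.mem_cons_of_mem _ hi)))

/-- all letters of a word are generators -/
def wlt (w : List ℕ) : Bool := w.all (fun j => Nat.blt j 31)

theorem wlt_spec {w : List ℕ} (h : wlt w = true) : ∀ j ∈ w, j < 31 := by
  intro j hj
  have := List.all_eq_true.1 h j hj
  rwa [Nat.blt_eq] at this

/-- forcing the evaluation of a list of numbers -/
def forceL {α : Sort*} : List ℕ → (List ℕ → α) → α
  | [], f => f []
  | x :: l, f => force x fun x' => forceL l fun l' => f (x' :: l')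

theorem forceL_eq {α : Sort*} : ∀ (l : List ℕ) (f : List ℕ → α), forceL l f = f l
  | [], _ => rfl
  | x :: l, f => by
    rw [forceL, force_eq, forceL_eq l]

/-- the action of a list of tables on the 506 points (written with the recursor, for the
kernel) -/
noncomputable def tevalL (ts : List ℕ) : ℕ → ℕ :=
  @List.rec ℕ (fun _ => ℕ → ℕ) (fun p => p) (fun T _ ih p => tget T (ih p)) ts

theorem tevalL_nil (p : ℕ) : tevalL [] p = p := rfl

theorem tevalL_cons (T : ℕ) (ts : List ℕ) (p : ℕ) : tevalL (T :: ts) p = tget T (tevalL ts p) := rfl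

theorem weval_eq : ∀ (w : List ℕ) (p : ℕ), weval w p = tevalL (w.map Data.gt) p
  | [], _ => rfl
  | j :: w, p => by
    rw [weval_cons, List.map_cons, tevalL_cons]
    show tget (Data.gt j) (weval w p) = _
    rw [weval_eq w p]

/-- two words have the same product: the test -/
noncomputable def wordEq (a b : List ℕ) : Bool :=
  forceL a fun a' => forceL b fun b' =>
    Nat.beq (wcode a') (wcode b') &&
      forceL (a'.map Data.gt) fun ta => forceL (b'.map Data.gt) fun tb =>
        allB (fun p => Nat.beq (tevalL ta p) (tevalL tb p)) 506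

theorem wprod_eq {a b : List ℕ} (ha : wlt a = true) (hb : wlt b = true)
    (h : wordEq a b = true) : wprod a = wprod b := by
  unfold wordEq at h
  simp only [forceL_eq] at h
  rw [Bool.and_eq_true, Nat.beq_eq] at h
  refine (rep_wprod a (wlt_spec ha)).eq (rep_wprod b (wlt_spec hb)) h.1 ?_
  intro p hp
  have := allB_spec h.2 p hp
  rw [Nat.beq_eq] at this
  rw [weval_eq, weval_eq]
  exact this

/-- the action of the ambient group on the 24 points -/
instance actGG : MulAction GG GolayPt := MulAction.compHom GolayPt (MonoidHom.fst _ _)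

theorem smul_def (a : GG) (p : GolayPt) : a • p = a.1 p := rfl

end Cfsg.Agent.Lib.Helper5.M23Ext
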