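import Cfsg.Agent.Lib.Helper5.M23Ext.Code

/-!
# The non-split extension 2^11.M23: the projection onto `M23`, its kernel, the module structure
-/

set_option autoImplicit false
set_option maxRecDepth 1000000

namespace Cfsg.Agent.Lib.Helper5.M23Ext

open Cfsg Cfsg.Agent.Lib.Helper6.Golay Cfsg.Agent.Lib.Helper6.Golay.M12Out Cfsg.Agent.H9.NatPerm
open Cfsg.Agent.H9.FusGrp

/-- the projection onto `M23` -/
noncomputable def fM (F : Facts) : ↥EE →* ↥Spor.M23 where
  toFun g := ⟨g.1.1, fst_mem_M23 F g.2⟩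
  map_one' := rfl
  map_mul' _ _ := rfl

theorem fM_val (F : Facts) (g : ↥EE) : ((fM F g : ↥Spor.M23) : Equiv.Perm GolayPt) = g.1.1 := rfl

theorem mem_ker_fM (F : Facts) (g : ↥EE) : g ∈ (fM F).ker ↔ g.1.1 = 1 := by
  rw [MonoidHom.mem_ker]
  constructor
  · intro h
    exact congrArg Subtype.val h
  · intro h
    exact Subtype.ext h

theorem gc0 : Data.gc 0 = Cfsg.Agent.H9.M23Grp.ga := by decide

theorem gc1 : Data.gc 1 = Cfsg.Agent.H9.M23Grp.gb := by decide

theorem fM_surjective (F : Facts) : Function.Surjective (fM F) := by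
  have hK : EE.map (MonoidHom.fst (Equiv.Perm GolayPt) (Equiv.Perm (Fin 506))) = Spor.M23 := by
    apply Cfsg.Agent.H9.M23Gen.eq_M23_of_gens
    · rintro _ ⟨g, hg, rfl⟩
      exact fst_mem_M23 F hg
    · refine ⟨(gen 0).1, ⟨gen 0, gen_mem_H (by norm_num) (Nat.zero_le _), rfl⟩, ?_⟩
      rw [← gc0]
      exact (g24_spec (j := 0) (by norm_num)).2
    · refine ⟨(gen 1).1, ⟨gen 1, gen_mem_H (by norm_num) (Nat.zero_le _), rfl⟩, ?_⟩
      rw [← gc1]
      exact (g24_spec (j := 1) (by norm_num)).2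
  intro m
  have hm : (m : Equiv.Perm GolayPt) ∈
      EE.map (MonoidHom.fst (Equiv.Perm GolayPt) (Equiv.Perm (Fin 506))) := by
    rw [hK]
    exact m.2
  obtain ⟨g, hg, hgm⟩ := hm
  exact ⟨⟨g, hg⟩, Subtype.ext hgm⟩

/-- the quotient by the kernel is `M23` -/
noncomputable def phiM (F : Facts) : ↥EE ⧸ (fM F).ker ≃* ↥Spor.M23 :=
  QuotientGroup.quotientKerEquivOfSurjective (fM F) (fM_surjective F)

theorem phiM_mk (F : Facts) (g : ↥EE) :
    phiM F (QuotientGroup.mk g) = fM F g := rfl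

/-- the subgroup `V` as the kernel -/
noncomputable def iotaM (F : Facts) : ↥VV →* ↥(fM F).ker where
  toFun v := ⟨⟨v.1, VV_le_EE v.2⟩, (mem_ker_fM F _).2 (VV_fst F v.2)⟩
  map_one' := rfl
  map_mul' _ _ := rfl

/-- the homomorphism from the binary words onto the kernel -/
noncomputable def thetaM (F : Facts) : (GolayPt → ZMod 2) →+ Additive ↥(fM F).ker :=
  (MonoidHom.toAdditive (iotaM F)).comp (theta0 F)

theorem thetaM_val (F : Facts) (w : GolayPt → ZMod 2) :
    ((Additive.toMul (thetaM F w) : ↥(fM F).ker) : ↥EE).1 = TT F w := rfl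

theorem thetaM_surjective (F : Facts) : Function.Surjective (thetaM F) := by
  intro n
  have hV : (Additive.toMul n : ↥(fM F).ker).1.1 ∈ VV :=
    mem_VV_of_fst F (Additive.toMul n : ↥(fM F).ker).1.2
      ((mem_ker_fM F _).1 (Additive.toMul n : ↥(fM F).ker).2)
  obtain ⟨w, hw⟩ := TT_surj F hV
  refine ⟨w, ?_⟩
  apply Additive.toMul.injective
  apply Subtype.ext
  apply Subtype.ext
  rw [thetaM_val]
  exact hw

theorem thetaM_eq_zero_iff (F : Facts) (w : GolayPt → ZMod 2) : thetaM F w = 0 ↔ TT F w = 1 := by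
  rw [← thetaM_val]
  constructor
  · intro h
    rw [h]
    rfl
  · intro h
    apply Additive.toMul.injective
    apply Subtype.ext
    apply Subtype.ext
    exact h

theorem thetaM_kernel (F : Facts) (F2 : Facts2) (w : GolayPt → ZMod 2) :
    thetaM F w = 0 ↔ (w ∈ golayCode ∨ w + Pi.single none 1 ∈ golayCode) := by
  rw [thetaM_eq_zero_iff, TT_eq_one_iff_code F F2]

theorem thetaM_conj (F : Facts) (g : ↥EE) (w : GolayPt → ZMod 2) :
    ((Additive.toMul (thetaM F (w ∘ ⇑(((phiM F (QuotientGroup.mk g) : ↥Spor.M23) :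
      Equiv.Perm GolayPt)⁻¹))) : ↥(fM F).ker) : ↥EE) =
      g * ((Additive.toMul (thetaM F w) : ↥(fM F).ker) : ↥EE) * g⁻¹ := by
  apply Subtype.ext
  show TT F (w ∘ ⇑(g.1.1)⁻¹) = g.1 * TT F w * g.1⁻¹
  exact (TT_conj F (EE_le_compat F g.2) w).symm

end Cfsg.Agent.Lib.Helper5.M23Ext
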