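import Cfsg.Agent.Lib.Helper5.M23Ext.Struct

/-!
# The non-split extension 2^11.M23: the kernel of the projection to `M23` is `V`
-/

set_option autoImplicit false
set_option maxRecDepth 1000000

namespace Cfsg.Agent.Lib.Helper5.M23Ext

open Cfsg Cfsg.Agent.Lib.Helper6.Golay Cfsg.Agent.Lib.Helper6.Golay.M12Out Cfsg.Agent.H9.NatPerm
open Cfsg.Agent.H9.FusGrp

theorem pt_inj24 {a b : ℕ} (ha : a < 24) (hb : b < 24) (h : pt a = pt b) : a = b := by
  rw [← idx_pt a ha, ← idx_pt b hb, h]

theorem fst_mem_M23 (F : Facts) {g : GG} (hg : g ∈ EE) : g.1 ∈ Spor.M23 := by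
  have : EE ≤ (Spor.M23).comap (MonoidHom.fst _ _) := by
    rw [EE, Chain.H, Subgroup.closure_le]
    rintro g (⟨j, hj, _, rfl⟩ | hg)
    · change j < 8 at hj
      exact (g24_spec (j := j) (by omega)).1
    · show g.1 ∈ Spor.M23
      rw [VV_fst F hg]
      exact one_mem _
  exact this hg

theorem VV_le_EE : VV ≤ EE := CC.V_le_H 0

theorem EE_le_compat (F : Facts) : EE ≤ CompatSub := H_le_compat F 0

/-- an element of the group acting trivially on the 24 points lies in `V` -/
theorem mem_VV_of_fst (F : Facts) {g : GG} (hg : g ∈ EE) (h1 : g.1 = 1) : g ∈ VV := by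
  refine CC.mem_V_of_fix ?_ ?_ ?_ ?_ (cert F) ?_ ?_ ?_ g hg ?_
  · intro j hj
    change j < 8 at hj
    show Data.glev j < 6
    interval_cases j <;> decide
  · intro i hi k hk
    exact U_mem F hi hk
  · intro i hi
    change i < 6 at hi
    constructor
    · show wprod (uw i 0) = 1
      have : uw i 0 = [] := by interval_cases i <;> rfl
      rw [this, wprod_nil]
    · show 0 < Data.nu i
      interval_cases i <;> decide
  · intro i hi k hk v hv
    have hU : (CC.U i k)⁻¹ ∈ CompatSub := inv_mem (H_le_compat F i (U_mem F hi hk))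
    have := conj_mem_VV hU hv
    rwa [inv_inv] at this
  · intro j hj i hi
    change j < 8 at hj
    change i < Data.glev j at hi
    have h := allB_spec (allB_spec F.fix j hj) i hi
    rw [Nat.beq_eq] at h
    have hb : Data.bpt i < 24 := by
      have : i < 6 := by
        have : Data.glev j < 6 := by interval_cases j <;> decide
        omega
      interval_cases i <;> decide
    have := (rep_gen (j := j) (by omega)).1.apply hb
    rw [h] at this
    exact this
  · intro v hv i _
    show v.1 (pt (Data.bpt i)) = pt (Data.bpt i)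
    rw [VV_fst F hv]
    rfl
  · intro i hi k hk hfix
    change i < 6 at hi
    change k < Data.nu i at hk
    have h := allB_spec (allB_spec F.inj i hi) k hk
    rw [Bool.or_eq_true, Nat.beq_eq] at h
    rcases h with h | h
    · exact h
    · exfalso
      have hb : Data.bpt i < 24 := by interval_cases i <;> decide
      have hr := (rep_wprod (uw i k) (wlt_spec (wlt_uw F hi hk))).1
      have h2 := hr.apply hb
      have h3 : (wprod (uw i k)).1 (pt (Data.bpt i)) = pt (Data.bpt i) := hfix
      rw [h2] at h3
      have h4 := pt_inj24 (aget_lt24 hr hb) hb h3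
      rw [h4] at h
      simp at h
  · intro i _
    show g.1 (pt (Data.bpt i)) = pt (Data.bpt i)
    rw [h1]
    rfl

end Cfsg.Agent.Lib.Helper5.M23Ext
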