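import Cfsg.Agent.Lib.Helper5.M23Ext.Hom

/-!
# The non-split extension 2^11.M23: no complement (a quaternion group that does not lift)
-/

set_option autoImplicit false
set_option maxRecDepth 1000000

namespace Cfsg.Agent.Lib.Helper5.M23Ext

open Cfsg Cfsg.Agent.Lib.Helper6.Golay Cfsg.Agent.Lib.Helper6.Golay.M12Out Cfsg.Agent.H9.NatPerm
open Cfsg.Agent.H9.FusGrp

/-- a complement of the kernel contains lifts of two elements that satisfy their relations -/
theorem complement_relations {E M : Type*} [Group E] [Group M] (f : E →* M) (H : Subgroup E)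
    (hH : H ⊓ f.ker = ⊥) (hsup : H ⊔ f.ker = ⊤) (X Y v0 v1 : E) (hv0 : v0 ∈ f.ker)
    (hv1 : v1 ∈ f.ker) (hxx : X * X = v0 * (Y * Y)) (hxyx : X * Y * X = v1 * Y) :
    ∃ n ∈ f.ker, ∃ m ∈ f.ker, (n * X) * (n * X) = (m * Y) * (m * Y) ∧
      (n * X) * (m * Y) * (n * X) = m * Y := by
  have key : ∀ Z : E, ∃ n ∈ f.ker, n * Z ∈ H := by
    intro Z
    have hZ : Z ∈ f.ker ⊔ H := by
      rw [sup_comm, hsup]
      trivial
    rw [← SetLike.mem_coe, Subgroup.normal_mul] at hZ
    obtain ⟨n, hn, h, hh, rfl⟩ := hZ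
    refine ⟨n⁻¹, inv_mem hn, ?_⟩
    rw [inv_mul_cancel_left]
    exact hh
  obtain ⟨n, hn, hnX⟩ := key X
  obtain ⟨m, hm, hmY⟩ := key Y
  have fn : f n = 1 := hn
  have fm : f m = 1 := hm
  have fv0 : f v0 = 1 := hv0
  have fv1 : f v1 = 1 := hv1
  refine ⟨n, hn, m, hm, ?_, ?_⟩
  · have hz : (n * X) * (n * X) * ((m * Y) * (m * Y))⁻¹ ∈ H ⊓ f.ker := by
      rw [Subgroup.mem_inf]
      refine ⟨H.mul_mem (H.mul_mem hnX hnX) (H.inv_mem (H.mul_mem hmY hmY)), ?_⟩
      rw [MonoidHom.mem_ker]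
      have h1 := congrArg f hxx
      simp only [map_mul, fv0, one_mul] at h1
      simp only [map_mul, map_inv, fn, fm, one_mul, h1]
      group
    rw [hH, Subgroup.mem_bot] at hz
    exact mul_inv_eq_one.1 hz
  · have hz : (n * X) * (m * Y) * (n * X) * (m * Y)⁻¹ ∈ H ⊓ f.ker := by
      rw [Subgroup.mem_inf]
      refine ⟨H.mul_mem (H.mul_mem (H.mul_mem hnX hmY) hnX) (H.inv_mem hmY), ?_⟩
      rw [MonoidHom.mem_ker]
      have h1 := congrArg f hxyx
      simp only [map_mul, fv1, one_mul] at h1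
      simp only [map_mul, map_inv, fn, fm, one_mul, h1]
      group
    rw [hH, Subgroup.mem_bot] at hz
    exact mul_inv_eq_one.1 hz

/-- the relations of the lifts in terms of the elements of the kernel -/
theorem conj_expand {G : Type*} [Group G] (ν μ x y v0 v1 : G) (hxx : x * x = v0 * (y * y))
    (hxyx : x * y * x = v1 * y) (h1 : (ν * x) * (ν * x) = (μ * y) * (μ * y))
    (h2 : (ν * x) * (μ * y) * (ν * x) = μ * y) :
    ν * (x * ν * x⁻¹) * v0 = μ * (y * μ * y⁻¹) ∧
      ν * (x * μ * x⁻¹) * ((x * y) * ν * (x * y)⁻¹) * v1 = μ := by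
  constructor
  · have e1 : ν * x * (ν * x) = ν * (x * ν * x⁻¹) * (x * x) := by group
    have e2 : μ * y * (μ * y) = μ * (y * μ * y⁻¹) * (y * y) := by group
    rw [e1, e2, hxx] at h1
    apply mul_right_cancel (b := y * y)
    rw [← h1]
    group
  · have e3 : ν * x * (μ * y) * (ν * x) =
        ν * (x * μ * x⁻¹) * ((x * y) * ν * (x * y)⁻¹) * (x * y * x) := by group
    rw [e3, hxyx] at h2
    apply mul_right_cancel (b := y)
    rw [← h2]
    group

/-- the functional given by a mask -/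
noncomputable def ell (c : ℕ) (w : GolayPt → ZMod 2) : ZMod 2 := ∑ p, dec c p * w p

theorem ell_add (c : ℕ) (w w' : GolayPt → ZMod 2) : ell c (w + w') = ell c w + ell c w' := by
  unfold ell
  rw [← Finset.sum_add_distrib]
  apply Finset.sum_congr rfl
  intro p _
  rw [Pi.add_apply, mul_add]

theorem ell_comp (c : ℕ) (σ : Equiv.Perm GolayPt) (w : GolayPt → ZMod 2) :
    ell c (w ∘ ⇑σ⁻¹) = ∑ q, dec c (σ q) * w q := by
  unfold ell
  rw [← Equiv.sum_comp σ (fun p => dec c p * (w ∘ ⇑σ⁻¹) p)]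
  apply Finset.sum_congr rfl
  intro q _
  show dec c (σ q) * w (σ.symm (σ q)) = dec c (σ q) * w q
  rw [Equiv.symm_apply_apply]

theorem ell_dec (c m : ℕ) : ell c (dec m) = ((pc 24 (c &&& m) : ℕ) : ZMod 2) := by
  unfold ell
  have h : ∀ p : GolayPt, dec c p * dec m p = if (c &&& m).testBit (idx p) = true then 1 else 0 := by
    intro p
    rw [dec_apply, dec_apply, Nat.testBit_and]
    cases c.testBit (idx p) <;> cases m.testBit (idx p) <;> simp
  simp_rw [h]
  rw [Finset.sum_boole, ← card_fs]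
  rfl

/-- the test results that the quaternion group needs -/
structure Facts3 : Prop where
  q8a : q8aOK = true
  q8b : q8bOK = true
  coefA : ∀ q : GolayPt, dec qc1 q + dec qc1 (pt (aget (wcode Data.wx) (idx q))) + dec qc2 q +
    dec qc2 (pt (aget (wcode Data.wx) (idx (pt (aget (wcode Data.wy) (idx q)))))) = 0
  coefB : ∀ q : GolayPt, dec qc1 q + dec qc1 (pt (aget (wcode Data.wy) (idx q))) +
    dec qc2 (pt (aget (wcode Data.wx) (idx q))) + dec qc2 q = 0
  orth1 : ∀ i < 24, pc 24 (qc1 &&& genMasks.getD i 0) % 2 = 0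
  orth2 : ∀ i < 24, pc 24 (qc2 &&& genMasks.getD i 0) % 2 = 0
  none1 : pc 24 (qc1 &&& 2 ^ 23) % 2 = 0
  none2 : pc 24 (qc2 &&& 2 ^ 23) % 2 = 0
  const : (pc 24 (qc1 &&& qw0) + pc 24 (qc2 &&& qw1)) % 2 = 1

theorem natCast_zmod2_zero {k : ℕ} (h : k % 2 = 0) : ((k : ℕ) : ZMod 2) = 0 :=
  (ZMod.natCast_eq_zero_iff k 2).2 (Nat.dvd_of_mod_eq_zero h)

/-- a functional orthogonal to the generators vanishes on the code -/
theorem ell_code {c : ℕ} (h : ∀ i < 24, pc 24 (c &&& genMasks.getD i 0) % 2 = 0)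
    {w : GolayPt → ZMod 2} (hw : w ∈ golayCode) : ell c w = 0 := by
  let K : Submodule (ZMod 2) (GolayPt → ZMod 2) :=
    { carrier := {w | ell c w = 0}
      zero_mem' := by
        show ell c 0 = 0
        unfold ell
        simp
      add_mem' := by
        intro a b ha hb
        show ell c (a + b) = 0
        rw [ell_add, ha, hb, add_zero]
      smul_mem' := by
        intro r a ha
        have hr : r = 0 ∨ r = 1 := by revert r; decide
        rcases hr with rfl | rfl
        · show ell c ((0 : ZMod 2) • a) = 0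
          rw [zero_smul]
          unfold ell
          simp
        · show ell c ((1 : ZMod 2) • a) = 0
          rw [one_smul]
          exact ha }
  have : golayCode ≤ K := by
    apply Submodule.span_le.mpr
    rintro w (⟨t, rfl⟩ | hw)
    · show ell c (qrWord t) = 0
      rw [qrWord_eq, qr_gen _ (ZMod.val_lt t), ell_dec]
      exact natCast_zmod2_zero (h _ (lt_trans (ZMod.val_lt t) (by decide)))
    · rw [Set.mem_singleton_iff] at hw
      show ell c w = 0
      rw [hw, ← dec_ones, ell_dec]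
      exact natCast_zmod2_zero (h 23 (by decide))
  exact this hw

theorem ell_code' {c : ℕ} (h : ∀ i < 24, pc 24 (c &&& genMasks.getD i 0) % 2 = 0)
    (hn : pc 24 (c &&& 2 ^ 23) % 2 = 0) {w : GolayPt → ZMod 2}
    (hw : w ∈ golayCode ∨ w + Pi.single none 1 ∈ golayCode) : ell c w = 0 := by
  rcases hw with hw | hw
  · exact ell_code h hw
  · have h1 := ell_code h hw
    rw [ell_add, ← dec_none, ell_dec, natCast_zmod2_zero hn, add_zero] at h1
    exact h1

theorem wprod_mem_EE : ∀ (w : List ℕ), (∀ j ∈ w, j < 31) → wprod w ∈ EE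
  | [], _ => by
    rw [wprod_nil]
    exact one_mem _
  | j :: w, h => by
    rw [wprod_cons]
    refine mul_mem ?_ (wprod_mem_EE w (fun i hi => h i (List.mem_cons_of_mem _ hi)))
    have hj := h j List.mem_cons_self
    rcases Nat.lt_or_ge j 8 with h8 | h8
    · exact gen_mem_H h8 (Nat.zero_le _)
    · apply VV_le_EE
      obtain ⟨r, rfl⟩ := Nat.exists_eq_add_of_le h8
      exact Dg_mem (by omega)

theorem wlt_wx : wlt Data.wx = true := by decide

theorem wlt_wy : wlt Data.wy = true := by decide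

/-- **no complement** -/
theorem no_complement (F : Facts) (F2 : Facts2) (F3 : Facts3) (H : Subgroup ↥EE)
    (hH : H ⊓ (fM F).ker = ⊥) : H ⊔ (fM F).ker ≠ ⊤ := by
  intro hsup
  -- the two elements and the two constants
  have hxE : wprod Data.wx ∈ EE := wprod_mem_EE _ (wlt_spec wlt_wx)
  have hyE : wprod Data.wy ∈ EE := wprod_mem_EE _ (wlt_spec wlt_wy)
  have hv0V : wprod (maskWord qw0) ∈ VV := maskWord_mem _
  have hv1V : wprod (maskWord qw1) ∈ VV := maskWord_mem _
  have hxx : wprod Data.wx * wprod Data.wx =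
      wprod (maskWord qw0) * (wprod Data.wy * wprod Data.wy) := by
    have := wprod_eq (a := Data.wx ++ Data.wx) (b := maskWord qw0 ++ (Data.wy ++ Data.wy))
      (by decide) (by
        unfold wlt
        rw [List.all_append, Bool.and_eq_true]
        exact ⟨wlt_maskWord _, by decide⟩) F3.q8a
    rwa [wprod_append, wprod_append, wprod_append] at this
  have hxyx : wprod Data.wx * wprod Data.wy * wprod Data.wx =
      wprod (maskWord qw1) * wprod Data.wy := by
    have := wprod_eq (a := Data.wx ++ (Data.wy ++ Data.wx)) (b := maskWord qw1 ++ Data.wy)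
      (by decide) (by
        unfold wlt
        rw [List.all_append, Bool.and_eq_true]
        exact ⟨wlt_maskWord _, by decide⟩) F3.q8b
    rwa [wprod_append, wprod_append, wprod_append, ← mul_assoc] at this
  obtain ⟨n, hn, m, hm, h1, h2⟩ := complement_relations (fM F) H hH hsup
    ⟨wprod Data.wx, hxE⟩ ⟨wprod Data.wy, hyE⟩
    ⟨wprod (maskWord qw0), VV_le_EE hv0V⟩ ⟨wprod (maskWord qw1), VV_le_EE hv1V⟩
    ((mem_ker_fM F _).2 (VV_fst F hv0V)) ((mem_ker_fM F _).2 (VV_fst F hv1V))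
    (Subtype.ext hxx) (Subtype.ext hxyx)
  have hnV : n.1 ∈ VV := mem_VV_of_fst F n.2 ((mem_ker_fM F n).1 hn)
  have hmV : m.1 ∈ VV := mem_VV_of_fst F m.2 ((mem_ker_fM F m).1 hm)
  obtain ⟨a, ha⟩ := TT_surj F hnV
  obtain ⟨b, hb⟩ := TT_surj F hmV
  have h1' : (n.1 * wprod Data.wx) * (n.1 * wprod Data.wx) =
      (m.1 * wprod Data.wy) * (m.1 * wprod Data.wy) := congrArg Subtype.val h1
  have h2' : (n.1 * wprod Data.wx) * (m.1 * wprod Data.wy) * (n.1 * wprod Data.wx) =
      m.1 * wprod Data.wy := congrArg Subtype.val h2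
  obtain ⟨k1, k2⟩ := conj_expand n.1 m.1 (wprod Data.wx) (wprod Data.wy) _ _ hxx hxyx h1' h2'
  have hxC : wprod Data.wx ∈ CompatSub := EE_le_compat F hxE
  have hyC : wprod Data.wy ∈ CompatSub := EE_le_compat F hyE
  have hxyC : wprod Data.wx * wprod Data.wy ∈ CompatSub := mul_mem hxC hyC
  rw [← ha, ← hb, TT_conj F hxC, TT_conj F hyC, ← TT_dec F, ← TT_add, ← TT_add, ← TT_add] at k1
  rw [← ha, ← hb, TT_conj F hxC, TT_conj F hxyC, ← TT_dec F, ← TT_add, ← TT_add, ← TT_add] at k2
  -- the two words in the kernel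
  set σx := (wprod Data.wx).1 with hσx
  set σy := (wprod Data.wy).1 with hσy
  have hσxy : (wprod Data.wx * wprod Data.wy).1 = σx * σy := rfl
  rw [hσxy] at k2
  have u1 : TT F ((a + a ∘ ⇑σx⁻¹ + dec qw0) + (b + b ∘ ⇑σy⁻¹)) = 1 := by
    rw [TT_add, k1, TT_self]
  have u2 : TT F ((a + b ∘ ⇑σx⁻¹ + a ∘ ⇑(σx * σy)⁻¹ + dec qw1) + b) = 1 := by
    rw [TT_add, k2, TT_self]
  have e1 := ell_code' F3.orth1 F3.none1 (code_of_TT F F2 u1)
  have e2 := ell_code' F3.orth2 F3.none2 (code_of_TT F F2 u2)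
  -- the codes of the two elements
  have hcx : IsC σx (wcode Data.wx) := (rep_wprod Data.wx (wlt_spec wlt_wx)).1
  have hcy : IsC σy (wcode Data.wy) := (rep_wprod Data.wy (wlt_spec wlt_wy)).1
  have hA : ell qc1 a + ell qc1 (a ∘ ⇑σx⁻¹) + ell qc2 a + ell qc2 (a ∘ ⇑(σx * σy)⁻¹) = 0 := by
    rw [ell_comp, ell_comp]
    unfold ell
    rw [← Finset.sum_add_distrib, ← Finset.sum_add_distrib, ← Finset.sum_add_distrib]
    apply Finset.sum_eq_zero
    intro q _
    rw [← add_mul, ← add_mul, ← add_mul, Equiv.Perm.mul_apply, isC_apply_idx hcx q,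
      isC_apply_idx hcy q, isC_apply_idx hcx (pt (aget (wcode Data.wy) (idx q))), F3.coefA q,
      zero_mul]
  have hB : ell qc1 b + ell qc1 (b ∘ ⇑σy⁻¹) + ell qc2 (b ∘ ⇑σx⁻¹) + ell qc2 b = 0 := by
    rw [ell_comp, ell_comp]
    unfold ell
    rw [← Finset.sum_add_distrib, ← Finset.sum_add_distrib, ← Finset.sum_add_distrib]
    apply Finset.sum_eq_zero
    intro q _
    rw [← add_mul, ← add_mul, ← add_mul, isC_apply_idx hcx q, isC_apply_idx hcy q, F3.coefB q,
      zero_mul]
  have hK : ell qc1 (dec qw0) + ell qc2 (dec qw1) = 1 := by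
    rw [ell_dec, ell_dec, ← Nat.cast_add, ← ZMod.natCast_mod, F3.const]
    rfl
  simp only [ell_add] at e1 e2
  have : (0 : ZMod 2) = 1 := by
    linear_combination hA + hB + hK - e1 - e2
  revert this
  decide

end Cfsg.Agent.Lib.Helper5.M23Ext
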