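import Cfsg.Agent.Lib.Helper5.M23Ext.Defs

/-!
# The non-split extension 2^11.M23: the subgroup `V`, compatibility, the chain (from the tests)
-/

set_option autoImplicit false
set_option maxRecDepth 1000000

namespace Cfsg.Agent.Lib.Helper5.M23Ext

open Cfsg Cfsg.Agent.Lib.Helper6.Golay Cfsg.Agent.Lib.Helper6.Golay.M12Out Cfsg.Agent.H9.NatPerm
open Cfsg.Agent.H9.FusGrp

/-- the involution `D r` -/
noncomputable def Dg (r : ℕ) : GG := gen (8 + r)

/-- the involutions indexed by the 24 points; the extra point gives the identity -/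
noncomputable def Dp (p : GolayPt) : GG := if idx p < 23 then Dg (idx p) else 1

theorem Dp_pt {r : ℕ} (hr : r < 23) : Dp (pt r) = Dg r := by
  unfold Dp
  rw [idx_pt r (by omega), if_pos hr]

theorem Dp_none : Dp none = 1 := by
  unfold Dp
  rw [if_neg]
  decide

theorem cases_pt (p : GolayPt) : p = none ∨ ∃ r < 23, p = pt r := by
  have h := idx_lt p
  rcases Nat.lt_or_ge (idx p) 23 with h' | h'
  · exact Or.inr ⟨idx p, h', (pt_idx p).symm⟩
  · left
    have : idx p = 23 := by omega
    rw [← pt_idx p, this]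
    rfl

/-- the elementary abelian subgroup -/
noncomputable def VV : Subgroup GG := Subgroup.closure (Set.range Dp)

theorem Dp_mem (p : GolayPt) : Dp p ∈ VV := Subgroup.subset_closure ⟨p, rfl⟩

theorem Dg_mem {r : ℕ} (hr : r < 23) : Dg r ∈ VV := by
  rw [← Dp_pt hr]
  exact Dp_mem _

/-- the test results that the structure needs -/
structure Facts : Prop where
  dinv : ∀ r < 23, dinvOne r = true
  dcomm : ∀ q < 23, ∀ r < q, dcommOne q r = true
  gcompat : ∀ j < 8, ∀ r < 23, gcompatOne j r = true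
  dcode : dcodeOK = true
  uw : uwOK = true
  inj : injOK = true
  fix : fixOK = true
  first : firstOK = true
  cert : ∀ i < 6, ∀ jj < 8 - Data.first i, ∀ k < Data.nu i, certOne i jj k = true

theorem Dg_fst (F : Facts) {r : ℕ} (hr : r < 23) : (Dg r).1 = 1 := by
  have h := allB_spec F.dcode r hr
  rw [Nat.beq_eq] at h
  have h2 := (rep_gen (j := 8 + r) (by omega)).1
  rw [h] at h2
  exact h2.ext isC_one

theorem Dp_fst (F : Facts) (p : GolayPt) : (Dp p).1 = 1 := by
  rcases cases_pt p with rfl | ⟨r, hr, rfl⟩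
  · rw [Dp_none]; rfl
  · rw [Dp_pt hr]; exact Dg_fst F hr

theorem VV_fst (F : Facts) {v : GG} (hv : v ∈ VV) : v.1 = 1 := by
  have : VV ≤ (MonoidHom.fst (Equiv.Perm GolayPt) (Equiv.Perm (Fin 506))).ker := by
    rw [VV, Subgroup.closure_le]
    rintro _ ⟨p, rfl⟩
    exact Dp_fst F p
  exact this hv

theorem Dg_sq (F : Facts) {r : ℕ} (hr : r < 23) : Dg r * Dg r = 1 := by
  have h := F.dinv r hr
  have := wprod_eq (a := [8 + r, 8 + r]) (b := []) (by simp [wlt]; omega) rfl h
  rw [wprod_cons, wprod_cons, wprod_nil, mul_one] at this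
  exact this

theorem Dg_comm (F : Facts) {q r : ℕ} (hq : q < 23) (hr : r < 23) : Dg q * Dg r = Dg r * Dg q := by
  have key : ∀ q r, r < q → q < 23 → Dg q * Dg r = Dg r * Dg q := by
    intro q r hrq hq
    have h := F.dcomm q hq r hrq
    have := wprod_eq (a := [8 + q, 8 + r]) (b := [8 + r, 8 + q])
      (by simp [wlt]; omega) (by simp [wlt]; omega) h
    simp only [wprod_cons, wprod_nil, mul_one] at this
    exact this
  rcases lt_trichotomy q r with h | rfl | h
  · exact (key r q h hr).symm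
  · rfl
  · exact key q r h hq

theorem Dp_comm (F : Facts) (p q : GolayPt) : Dp p * Dp q = Dp q * Dp p := by
  rcases cases_pt p with rfl | ⟨r, hr, rfl⟩
  · rw [Dp_none, one_mul, mul_one]
  rcases cases_pt q with rfl | ⟨s, hs, rfl⟩
  · rw [Dp_none, one_mul, mul_one]
  rw [Dp_pt hr, Dp_pt hs]
  exact Dg_comm F hr hs

theorem Dp_sq (F : Facts) (p : GolayPt) : Dp p * Dp p = 1 := by
  rcases cases_pt p with rfl | ⟨r, hr, rfl⟩
  · rw [Dp_none, one_mul]
  · rw [Dp_pt hr]; exact Dg_sq F hr

/-- the elements that permute the involutions as they permute the points -/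
noncomputable def CompatSub : Subgroup GG where
  carrier := {a | ∀ p : GolayPt, a * Dp p * a⁻¹ = Dp (a.1 p)}
  one_mem' := by intro p; simp
  mul_mem' := by
    intro a b ha hb p
    have : a * b * Dp p * (a * b)⁻¹ = a * (b * Dp p * b⁻¹) * a⁻¹ := by group
    rw [this, hb p, ha (b.1 p)]
    rfl
  inv_mem' := by
    intro a ha p
    have h := ha (a⁻¹.1 p)
    have e : a.1 (a⁻¹.1 p) = p := by
      show a.1 ((a.1)⁻¹ p) = p
      simp
    rw [e] at h
    rw [← h]
    group

theorem mem_CompatSub {a : GG} : a ∈ CompatSub ↔ ∀ p : GolayPt, a * Dp p * a⁻¹ = Dp (a.1 p) :=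
  Iff.rfl

theorem gen_fst_none {j : ℕ} (hj : j < 31) : (gen j).1 none = none := by
  have := (g24_spec hj).1
  rw [mem_SporM23'] at this
  exact this.2

theorem gen_compat (F : Facts) {j : ℕ} (hj : j < 8) : gen j ∈ CompatSub := by
  intro p
  rcases cases_pt p with rfl | ⟨r, hr, rfl⟩
  · rw [gen_fst_none (by omega), Dp_none, mul_one, mul_inv_cancel]
  · have h := F.gcompat j hj r hr
    unfold gcompatOne at h
    rw [Bool.and_eq_true, Nat.blt_eq] at h
    have e := wprod_eq (a := [j, 8 + r]) (b := [8 + aget (Data.gc j) r, j])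
      (by simp [wlt]; omega) (by simp [wlt]; omega) h.2
    simp only [wprod_cons, wprod_nil, mul_one] at e
    have hc : (gen j).1 (pt r) = pt (aget (Data.gc j) r) :=
      (rep_gen (j := j) (by omega)).1.apply (by omega)
    rw [hc, Dp_pt hr, Dp_pt h.1]
    show gen j * gen (8 + r) * (gen j)⁻¹ = gen (8 + aget (Data.gc j) r)
    rw [e, mul_inv_cancel_right]

theorem Dp_compat (F : Facts) (q : GolayPt) : Dp q ∈ CompatSub := by
  intro p
  rw [Dp_fst F q, Dp_comm F q p, mul_inv_cancel_right]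
  rfl

theorem VV_le_compat (F : Facts) : VV ≤ CompatSub := by
  rw [VV, Subgroup.closure_le]
  rintro _ ⟨p, rfl⟩
  exact Dp_compat F p

/-- conjugation by a compatible element maps `V` into `V` -/
theorem conj_mem_VV {a : GG} (ha : a ∈ CompatSub) {v : GG} (hv : v ∈ VV) : a * v * a⁻¹ ∈ VV := by
  have : VV ≤ VV.comap (MulAut.conj a).toMonoidHom := by
    rw [VV, Subgroup.closure_le]
    rintro _ ⟨p, rfl⟩
    show a * Dp p * a⁻¹ ∈ Subgroup.closure (Set.range Dp)
    rw [ha p]
    exact Subgroup.subset_closure ⟨_, rfl⟩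
  exact this hv

/-- the chain -/
noncomputable def CC : Chain GG GolayPt where
  gen := gen
  ng := 8
  lev := Data.glev
  V := VV
  nl := 6
  b := fun i => pt (Data.bpt i)
  U := fun i k => wprod (uw i k)
  nu := Data.nu

/-- the group -/
noncomputable def EE : Subgroup GG := CC.H 0

theorem gen_mem_H {j i : ℕ} (hj : j < 8) (hl : i ≤ Data.glev j) : gen j ∈ CC.H i :=
  Subgroup.subset_closure (Or.inl ⟨j, hj, hl, rfl⟩)

theorem H_le_compat (F : Facts) (i : ℕ) : CC.H i ≤ CompatSub := by
  rw [Chain.H, Subgroup.closure_le]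
  rintro g (⟨j, hj, _, rfl⟩ | hg)
  · exact gen_compat F hj
  · exact VV_le_compat F hg

theorem uw_letters (F : Facts) {i k : ℕ} (hi : i < 6) (hk : k < Data.nu i) :
    ∀ j ∈ uw i k, j < 8 ∧ i ≤ Data.glev j := by
  intro j hj
  have h := List.all_eq_true.1 (allB_spec (allB_spec F.uw i hi) k hk) j hj
  rw [Bool.and_eq_true, Nat.blt_eq] at h
  exact ⟨h.1, Nat.le_of_ble_eq_true h.2⟩

theorem wlt_uw (F : Facts) {i k : ℕ} (hi : i < 6) (hk : k < Data.nu i) : wlt (uw i k) = true := by
  unfold wlt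
  rw [List.all_eq_true]
  intro j hj
  rw [Nat.blt_eq]
  have := (uw_letters F hi hk j hj).1
  omega

theorem U_mem (F : Facts) {i k : ℕ} (hi : i < 6) (hk : k < Data.nu i) : CC.U i k ∈ CC.H i := by
  show wprod (uw i k) ∈ CC.H i
  unfold wprod
  apply Subgroup.list_prod_mem
  intro x hx
  obtain ⟨j, hj, rfl⟩ := List.mem_map.1 hx
  obtain ⟨h1, h2⟩ := uw_letters F hi hk j hj
  exact gen_mem_H h1 h2

theorem wlt_maskWord (w : ℕ) : wlt (maskWord w) = true := by
  unfold wlt maskWord
  rw [List.all_eq_true]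
  intro j hj
  obtain ⟨r, hr, rfl⟩ := List.mem_map.1 hj
  have := List.mem_range.1 (List.mem_filter.1 hr).1
  rw [Nat.blt_eq]
  omega

theorem maskWord_mem (w : ℕ) : wprod (maskWord w) ∈ VV := by
  unfold wprod
  apply Subgroup.list_prod_mem
  intro x hx
  obtain ⟨j, hj, rfl⟩ := List.mem_map.1 hx
  unfold maskWord at hj
  obtain ⟨r, hr, rfl⟩ := List.mem_map.1 hj
  exact Dg_mem (List.mem_range.1 (List.mem_filter.1 hr).1)

theorem wprod_rhsW (rec : ℕ) : ∀ (n i : ℕ), wprod (rhsW rec i n) = CC.tail (fld rec) i n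
  | 0, _ => rfl
  | n + 1, i => by
    rw [rhsW, wprod_append, Chain.tail, wprod_rhsW rec n (i + 1)]
    rfl

theorem wlt_rhsW (F : Facts) (rec : ℕ) : ∀ (n i : ℕ), i + n ≤ 6 → fldsOK rec i n = true →
    wlt (rhsW rec i n) = true ∧ ∀ l, i ≤ l → l < i + n → fld rec l < Data.nu l
  | 0, _, _, _ => ⟨rfl, fun l h1 h2 => by omega⟩
  | n + 1, i, hin, h => by
    rw [fldsOK, Bool.and_eq_true, Nat.blt_eq] at h
    obtain ⟨h1, h2⟩ := wlt_rhsW F rec n (i + 1) (by omega) h.2
    constructor
    · rw [rhsW]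
      unfold wlt at h1 ⊢
      rw [List.all_append, Bool.and_eq_true]
      exact ⟨wlt_uw F (by omega) h.1, h1⟩
    · intro l hl1 hl2
      rcases Nat.eq_or_lt_of_le hl1 with rfl | hl
      · exact h.1
      · exact h2 l (by omega) (by omega)

theorem cert (F : Facts) : CC.Cert := by
  intro i hi j hj hl k hk
  change i < 6 at hi
  change j < 8 at hj
  change i ≤ Data.glev j at hl
  change k < Data.nu i at hk
  -- `j = first i + jj`
  have hf := allB_spec (allB_spec F.first i hi) j hj
  have hfj : Data.first i ≤ j := by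
    have : Nat.ble i (Data.glev j) = true := Nat.ble_eq_true_of_le hl
    rw [this] at hf
    have h2 : Nat.ble (Data.first i) j = true := by
      revert hf
      cases Nat.ble (Data.first i) j <;> simp
    exact Nat.le_of_ble_eq_true h2
  obtain ⟨jj, rfl⟩ := Nat.exists_eq_add_of_le hfj
  have h := F.cert i hi jj (by omega) k hk
  unfold certOne at h
  rw [force_eq, Bool.and_eq_true] at h
  set rec := (Data.certL i).getD (jj * Data.nu i + k) 0 with hrec
  obtain ⟨h1, h2⟩ := wlt_rhsW F rec (6 - i) i (by omega) h.1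
  have e := wprod_eq (a := (Data.first i + jj) :: uw i k)
    (b := rhsW rec i (6 - i) ++ maskWord (Nat.shiftRight rec 48))
    (by
      unfold wlt
      rw [List.all_cons, Bool.and_eq_true]
      refine ⟨by rw [Nat.blt_eq]; omega, ?_⟩
      exact wlt_uw F hi hk)
    (by
      unfold wlt at h1 ⊢
      rw [List.all_append, Bool.and_eq_true]
      exact ⟨h1, wlt_maskWord _⟩) h.2
  have h6 : 6 - i = (6 - (i + 1)) + 1 := by omega
  rw [wprod_cons, wprod_append, h6, rhsW, wprod_append, wprod_rhsW, mul_assoc] at e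
  refine ⟨fld rec i, h2 i le_rfl (by omega), fld rec, ?_, wprod (maskWord (Nat.shiftRight rec 48)),
    maskWord_mem _, e⟩
  intro l hl1 hl2
  exact h2 l (by omega) (by change l < 6 at hl2; omega)

end Cfsg.Agent.Lib.Helper5.M23Ext
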