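import Mathlib

/-!
# Commuting involutions: the homomorphism from the space of binary words onto the subgroup
they generate
-/

set_option autoImplicit false

namespace Cfsg.Agent.Lib.Helper5.M23Ext

open Subgroup

theorem pow_val_add {M : Type*} [Monoid M] (a : M) (h : a * a = 1) (x y : ZMod 2) :
    a ^ (x + y).val = a ^ x.val * a ^ y.val := by
  have hx : x = 0 ∨ x = 1 := by revert x; decide
  have hy : y = 0 ∨ y = 1 := by revert y; decide
  have h11 : ((1 : ZMod 2) + 1) = 0 := by decide
  rcases hx with rfl | rfl <;> rcases hy with rfl | rfl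
  · simp
  · simp
  · simp
  · rw [h11, ZMod.val_zero, ZMod.val_one, pow_zero, pow_one, h]

section

variable {G : Type*} [Group G] {ι : Type*} [Fintype ι] [DecidableEq ι] (D : ι → G)

/-- the generators as elements of the subgroup they generate -/
def genIn (p : ι) : ↥(closure (Set.range D)) := ⟨D p, subset_closure ⟨p, rfl⟩⟩

variable (hc : ∀ p q, D p * D q = D q * D p) (hs : ∀ p, D p * D p = 1)

/-- the commutative structure on the subgroup generated by commuting elements -/
@[reducible] def commClosure : CommGroup ↥(closure (Set.range D)) :=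
  closureCommGroupOfComm (by rintro _ ⟨p, rfl⟩ _ ⟨q, rfl⟩; exact hc p q)

/-- the homomorphism from the binary words onto the subgroup -/
noncomputable def thetaGen : (ι → ZMod 2) →+ Additive ↥(closure (Set.range D)) :=
  letI := commClosure D hc
  AddMonoidHom.mk' (fun w => Additive.ofMul (∏ p, genIn D p ^ (w p).val)) (by
    intro w w'
    show Additive.ofMul (∏ p, genIn D p ^ ((w + w') p).val) =
      Additive.ofMul (∏ p, genIn D p ^ (w p).val) + Additive.ofMul (∏ p, genIn D p ^ (w' p).val)
    rw [← ofMul_mul, ← Finset.prod_mul_distrib]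
    congr 1
    apply Finset.prod_congr rfl
    intro p _
    exact pow_val_add _ (Subtype.ext (hs p)) _ _)

theorem thetaGen_single (p : ι) :
    thetaGen D hc hs (Pi.single p 1) = Additive.ofMul (genIn D p) := by
  letI := commClosure D hc
  show Additive.ofMul (∏ q, genIn D q ^ ((Pi.single p 1 : ι → ZMod 2) q).val) = _
  congr 1
  rw [Finset.prod_eq_single p]
  · rw [Pi.single_eq_same, ZMod.val_one, pow_one]
  · intro q _ hq
    rw [Pi.single_eq_of_ne hq, ZMod.val_zero, pow_zero]
  · intro h
    exact absurd (Finset.mem_univ p) h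

theorem thetaGen_surjective : Function.Surjective (thetaGen D hc hs) := by
  have key : ∀ g (hg : g ∈ closure (Set.range D)),
      ∃ w, thetaGen D hc hs w = Additive.ofMul ⟨g, hg⟩ := by
    intro g hg
    induction hg using closure_induction with
    | mem x hx =>
      obtain ⟨p, rfl⟩ := hx
      exact ⟨Pi.single p 1, thetaGen_single D hc hs p⟩
    | one => exact ⟨0, map_zero _⟩
    | mul x y hx hy ihx ihy =>
      obtain ⟨w, hw⟩ := ihx
      obtain ⟨w', hw'⟩ := ihy
      exact ⟨w + w', by rw [map_add, hw, hw']; rfl⟩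
    | inv x hx ih =>
      obtain ⟨w, hw⟩ := ih
      exact ⟨-w, by rw [map_neg, hw]; rfl⟩
  intro v
  obtain ⟨w, hw⟩ := key (Additive.toMul v).1 (Additive.toMul v).2
  exact ⟨w, hw⟩

theorem thetaGen_conj (a : G) (σ : Equiv.Perm ι) (h : ∀ p, a * D p * a⁻¹ = D (σ p))
    (w : ι → ZMod 2) :
    a * ((Additive.toMul (thetaGen D hc hs w) : ↥(closure (Set.range D))) : G) * a⁻¹ =
      ((Additive.toMul (thetaGen D hc hs (w ∘ σ.symm)) : ↥(closure (Set.range D))) : G) := by
  letI := commClosure D hc
  have hn : ∀ v ∈ closure (Set.range D), a * v * a⁻¹ ∈ closure (Set.range D) := by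
    have : closure (Set.range D) ≤ (closure (Set.range D)).comap (MulAut.conj a).toMonoidHom := by
      rw [closure_le]
      rintro _ ⟨p, rfl⟩
      show a * D p * a⁻¹ ∈ closure (Set.range D)
      rw [h p]
      exact subset_closure ⟨_, rfl⟩
    exact fun v hv => this hv
  let κ : ↥(closure (Set.range D)) →* ↥(closure (Set.range D)) :=
    { toFun := fun v => ⟨a * v.1 * a⁻¹, hn v.1 v.2⟩
      map_one' := by
        apply Subtype.ext
        show a * 1 * a⁻¹ = 1
        group
      map_mul' := by
        intro x y
        apply Subtype.ext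
        show a * (x.1 * y.1) * a⁻¹ = (a * x.1 * a⁻¹) * (a * y.1 * a⁻¹)
        group }
  have hκ : ∀ p, κ (genIn D p) = genIn D (σ p) := fun p => Subtype.ext (h p)
  have key : κ (∏ p, genIn D p ^ (w p).val) = ∏ p, genIn D p ^ ((w ∘ σ.symm) p).val := by
    rw [map_prod]
    simp only [map_pow, hκ]
    rw [← Equiv.prod_comp σ (fun q => genIn D q ^ ((w ∘ σ.symm) q).val)]
    apply Finset.prod_congr rfl
    intro p _
    simp
  exact congrArg Subtype.val key

end

end Cfsg.Agent.Lib.Helper5.M23Ext
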