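import Cfsg.Agent.Lib.Helper5.M23Ext.Ker
import Cfsg.Agent.Lib.Helper5.M23Ext.ThetaGen

/-!
# The non-split extension 2^11.M23: the homomorphism from the binary words onto `V`
-/

set_option autoImplicit false
set_option maxRecDepth 1000000

namespace Cfsg.Agent.Lib.Helper5.M23Ext

open Cfsg Cfsg.Agent.Lib.Helper6.Golay Cfsg.Agent.Lib.Helper6.Golay.M12Out Cfsg.Agent.H9.NatPerm
open Cfsg.Agent.H9.FusGrp

/-- the homomorphism from the binary words onto `V` -/
noncomputable def theta0 (F : Facts) : (GolayPt → ZMod 2) →+ Additive ↥VV :=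
  thetaGen Dp (Dp_comm F) (Dp_sq F)

/-- its values in the ambient group -/
noncomputable def TT (F : Facts) (w : GolayPt → ZMod 2) : GG :=
  ((Additive.toMul (theta0 F w) : ↥VV) : GG)

theorem TT_mem (F : Facts) (w : GolayPt → ZMod 2) : TT F w ∈ VV :=
  (Additive.toMul (theta0 F w) : ↥VV).2

theorem TT_add (F : Facts) (w w' : GolayPt → ZMod 2) : TT F (w + w') = TT F w * TT F w' := by
  unfold TT
  rw [map_add]
  rfl

theorem TT_zero (F : Facts) : TT F 0 = 1 := by
  unfold TT
  rw [map_zero]
  rfl

theorem theta0_single (F : Facts) (p : GolayPt) :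
    theta0 F (Pi.single p 1) = Additive.ofMul (⟨Dp p, Dp_mem p⟩ : ↥VV) :=
  thetaGen_single Dp (Dp_comm F) (Dp_sq F) p

theorem theta0_surjective (F : Facts) : Function.Surjective (theta0 F) :=
  thetaGen_surjective Dp (Dp_comm F) (Dp_sq F)

theorem TT_single (F : Facts) (p : GolayPt) : TT F (Pi.single p 1) = Dp p := by
  unfold TT
  rw [theta0_single]
  rfl

theorem TT_surj (F : Facts) {v : GG} (hv : v ∈ VV) : ∃ w, TT F w = v := by
  obtain ⟨w, hw⟩ := theta0_surjective F (Additive.ofMul ⟨v, hv⟩)
  refine ⟨w, ?_⟩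
  unfold TT
  rw [hw]
  rfl

theorem TT_conj (F : Facts) {a : GG} (ha : a ∈ CompatSub) (w : GolayPt → ZMod 2) :
    a * TT F w * a⁻¹ = TT F (w ∘ ⇑(a.1)⁻¹) :=
  thetaGen_conj Dp (Dp_comm F) (Dp_sq F) a a.1 ha w

theorem TT_eq_one_iff (F : Facts) (w : GolayPt → ZMod 2) : TT F w = 1 ↔ theta0 F w = 0 := by
  constructor
  · intro h
    have : (Additive.toMul (theta0 F w) : ↥VV) = 1 := Subtype.ext h
    exact this
  · intro h
    unfold TT
    rw [h]
    rfl

theorem TT_self (F : Facts) (w : GolayPt → ZMod 2) : TT F w * TT F w = 1 := by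
  rw [← TT_add]
  have : w + w = 0 := by
    funext p
    show w p + w p = 0
    generalize w p = x
    revert x
    decide
  rw [this, TT_zero]

/-- the word of the involutions `D r`, `r < k` a bit of `n` -/
def mw (k n : ℕ) : List ℕ :=
  ((List.range k).filter (fun r => n.testBit r)).map (fun r => 8 + r)

theorem maskWord_eq (n : ℕ) : maskWord n = mw 23 n := rfl

theorem mw_succ (k n : ℕ) : mw (k + 1) n = mw k n ++ if n.testBit k then [8 + k] else [] := by
  unfold mw
  rw [List.range_succ, List.filter_append, List.map_append]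
  congr 1
  by_cases h : n.testBit k = true <;> simp [h]

theorem dec_low_succ (n : ℕ) {k : ℕ} (hk : k < 24) :
    dec (n % 2 ^ (k + 1)) = dec (n % 2 ^ k) + if n.testBit k then Pi.single (pt k) 1 else 0 := by
  funext p
  rw [Pi.add_apply, dec_apply, dec_apply, Nat.testBit_mod_two_pow, Nat.testBit_mod_two_pow]
  by_cases hp : idx p = k
  · have hpk : p = pt k := by rw [← hp, pt_idx]
    rw [hp]
    have h1 : decide (k < k + 1) = true := by simp
    have h2 : decide (k < k) = false := by simp
    rw [h1, h2, Bool.true_and, Bool.false_and]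
    cases h : n.testBit k
    · simp
    · simp [hpk]
  · have hne : p ≠ pt k := by
      intro h
      apply hp
      rw [h, idx_pt k hk]
    have h1 : decide (idx p < k + 1) = decide (idx p < k) := by
      apply decide_eq_decide.2
      omega
    rw [h1]
    have : (if n.testBit k then (Pi.single (pt k) 1 : GolayPt → ZMod 2) else 0) p = 0 := by
      cases n.testBit k
      · rfl
      · simp [Pi.single_eq_of_ne hne]
    rw [this, add_zero]

theorem Dp_pt' {r : ℕ} (hr : r < 23) : Dp (pt r) = gen (8 + r) := Dp_pt hr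

theorem TT_low (F : Facts) (n : ℕ) : ∀ k ≤ 23, TT F (dec (n % 2 ^ k)) = wprod (mw k n)
  | 0, _ => by
    rw [pow_zero, Nat.mod_one, dec_zero, TT_zero]
    rfl
  | k + 1, hk => by
    rw [dec_low_succ n (by omega), TT_add, TT_low F n k (by omega), mw_succ, wprod_append]
    congr 1
    cases n.testBit k
    · simp only [Bool.false_eq_true, if_false]
      rw [TT_zero, wprod_nil]
    · simp only [if_true]
      rw [TT_single, Dp_pt' (by omega), wprod_cons, wprod_nil, mul_one]

/-- the value on a word given by a mask -/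
theorem TT_dec (F : Facts) (n : ℕ) : TT F (dec n) = wprod (maskWord n) := by
  rw [← dec_mod, show (2 : ℕ) ^ 24 = 2 ^ (23 + 1) from rfl, dec_low_succ n (by omega), TT_add,
    TT_low F n 23 le_rfl, maskWord_eq]
  have : TT F (if n.testBit 23 then (Pi.single (pt 23) 1 : GolayPt → ZMod 2) else 0) = 1 := by
    cases n.testBit 23
    · simp only [Bool.false_eq_true, if_false]
      rw [TT_zero]
    · simp only [if_true]
      rw [TT_single]
      exact Dp_none
  rw [this, mul_one]

end Cfsg.Agent.Lib.Helper5.M23Ext
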